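import Groth.Agent.FlatCrit65.Point.Main

/-!
# Flat finite modules over essentially finitely presented local algebras are finitely presented
-/

universe u

noncomputable section

open TensorProduct

namespace Groth.Agent.FlatCrit65

theorem exists_nat_ringKrullDim_lt (A : Type u) [CommRing A] [IsNoetherianRing A] [IsLocalRing A] :
    ∃ n : ℕ, ringKrullDim A < (n : ℕ) := by
  have h : ringKrullDim A < ⊤ := ringKrullDim_lt_top
  revert h
  generalize ringKrullDim A = z
  intro h
  cases z with
  | bot => exact ⟨0, WithBot.bot_lt_coe _⟩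
  | coe z =>
    cases z with
    | top => exact absurd h (lt_irrefl _)
    | coe z => exact ⟨z + 1, by exact_mod_cast Nat.lt_succ_self z⟩

section Transfer

variable {R R' S S' L L' M : Type u} [CommRing R] [CommRing R'] [IsLocalRing R'] [Algebra R R']
  [CommRing S] [Algebra R S] [CommRing S'] [Algebra R S'] [Algebra R' S'] [Algebra S S']
  [IsScalarTower R R' S'] [IsScalarTower R S S'] [Algebra.IsPushout R R' S S']
  [CommRing L] [IsLocalRing L] [Algebra R L] [Algebra S L] [IsScalarTower R S L]
  [CommRing L'] [IsLocalRing L'] [Algebra S' L'] [Algebra R' L'] [Algebra S L'] [IsScalarTower S S' L']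
  [IsScalarTower R' S' L'] [Algebra L L'] [IsScalarTower S L L']
  (q : Ideal S) [q.IsPrime] [IsLocalization.AtPrime L q]
  (q' : Ideal S') [q'.IsPrime] [IsLocalization.AtPrime L' q']
  [AddCommGroup M] [Module L M] [Module R M] [IsScalarTower R L M]

theorem faithfullyFlat_localizations [Module.Flat R R'] (hcomap : q'.comap (algebraMap S S') = q) :
    Module.FaithfullyFlat L L' := by
  have hflatS' : Module.Flat S S' := Module.Flat.isBaseChange R S R' S'
    (Algebra.IsPushout.out (R := R) (S := S) (R' := R') (S' := S')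
      (self := (inferInstance : Algebra.IsPushout R R' S S').symm))
  have : Module.Flat S' L' := IsLocalization.flat L' q'.primeCompl
  have hflatL'S : Module.Flat S L' := Module.Flat.trans S S' L'
  have hflatLL : Module.Flat L L' := (Module.flat_iff_of_isLocalization L q.primeCompl L').mpr hflatL'S
  have hloc : IsLocalHom (algebraMap L L') := ⟨fun v hv => by
    obtain ⟨b, ⟨s, hs⟩, rfl⟩ := IsLocalization.exists_mk'_eq q.primeCompl v
    by_contra hn
    have hb : b ∈ q := by
      by_contra hb
      exact hn ((IsLocalization.AtPrime.isUnit_mk'_iff L q b ⟨s, hs⟩).mpr hb)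
    have h1 : IsUnit (algebraMap L L' (algebraMap S L b)) := by
      rw [← IsLocalization.mk'_spec L b (⟨s, hs⟩ : q.primeCompl), map_mul]
      exact hv.mul ((IsLocalization.map_units (M := q.primeCompl) L ⟨s, hs⟩).map _)
    rw [← IsScalarTower.algebraMap_apply, IsScalarTower.algebraMap_apply S S' L',
      IsLocalization.AtPrime.isUnit_to_map_iff L' q'] at h1
    exact h1 (hcomap.symm ▸ hb : b ∈ q'.comap (algebraMap S S'))⟩
  exact Module.FaithfullyFlat.of_flat_of_isLocalHom

include q q' L' in
theorem flat_tensor_localizations [Module.Flat R M] : Module.Flat R' (RestrictScalars R' L' (L' ⊗[L] M)) := by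
  letI : Module S M := Module.compHom M (algebraMap S L)
  have : IsScalarTower S L M := IsScalarTower.of_algebraMap_smul fun _ _ => rfl
  have : IsScalarTower R S M := IsScalarTower.of_algebraMap_smul fun c m => by
    show algebraMap S L (algebraMap R S c) • m = c • m
    rw [← IsScalarTower.algebraMap_apply, algebraMap_smul]
  let e₀ : S' ⊗[S] M ≃ₗ[R'] R' ⊗[R] M := Algebra.IsPushout.cancelBaseChange R R' S S' M
  have : Module.Flat R' (S' ⊗[S] M) := Module.Flat.of_linearEquiv e₀
  have : Module.Flat S' L' := IsLocalization.flat L' q'.primeCompl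
  exact flat_restrictScalars_tensor (R' := R') (A := S) (A' := S') (D₀ := L) (D := L') q.primeCompl M

include q q' L' in
theorem finitePresentation_of_point [Algebra.FinitePresentation R S] [Module.Flat R R'] [Module.Finite L M]
    [Module.Flat R M] (hcomap : q'.comap (algebraMap S S') = q)
    (hm : ∀ c ∈ IsLocalRing.maximalIdeal R', algebraMap R' S' c ∈ q')
    (hrat : ∀ z : S', ∃ c : R', z - algebraMap R' S' c ∈ q') : Module.FinitePresentation L M := by
  have := faithfullyFlat_localizations (R := R) (R' := R') (L := L) (L' := L') q q' hcomap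
  have : Algebra.FinitePresentation R' S' := by
    have e := Algebra.IsPushout.equiv R R' S S'
    exact Algebra.FinitePresentation.equiv e
  have : Algebra.EssFiniteType R' L' :=
    have := Algebra.EssFiniteType.of_isLocalization (S := L') q'.primeCompl
    Algebra.EssFiniteType.comp R' S' L'
  have := isNoetherianRing_closedFibre (R := R') L'
  have hne : (IsLocalRing.maximalIdeal R').map (algebraMap R' L') ≠ ⊤ := by
    refine ne_top_of_le_ne_top (IsLocalRing.maximalIdeal.isMaximal L').ne_top ?_
    rw [Ideal.map_le_iff_le_comap]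
    intro c hc
    rw [Ideal.mem_comap, IsScalarTower.algebraMap_apply R' S' L', IsLocalRing.mem_maximalIdeal,
      mem_nonunits_iff, IsLocalization.AtPrime.isUnit_to_map_iff L' q']
    exact fun h => h (hm c hc)
  have : Nontrivial (L' ⧸ (IsLocalRing.maximalIdeal R').map (algebraMap R' L')) :=
    Ideal.Quotient.nontrivial_iff.mpr hne
  have : IsLocalRing (L' ⧸ (IsLocalRing.maximalIdeal R').map (algebraMap R' L')) :=
    .of_surjective' _ Ideal.Quotient.mk_surjective
  obtain ⟨n, hn⟩ := exists_nat_ringKrullDim_lt (L' ⧸ (IsLocalRing.maximalIdeal R').map (algebraMap R' L'))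
  have : IsScalarTower R' L' (L' ⊗[L] M) := TensorProduct.isScalarTower_left
  have hflat0 := flat_tensor_localizations (R := R) (R' := R') (L := L) (L' := L') (M := M) q q'
  have : Module.Flat R' (L' ⊗[L] M) := Module.Flat.of_linearEquiv (M := RestrictScalars R' L' (L' ⊗[L] M))
      ({ (RestrictScalars.addEquiv R' L' (L' ⊗[L] M)).symm with
          map_smul' := fun r x => by
            show (RestrictScalars.addEquiv R' L' (L' ⊗[L] M)).symm (r • x) = r • _
            rw [← algebraMap_smul L' r x]
            rfl } : L' ⊗[L] M ≃ₗ[R'] RestrictScalars R' L' (L' ⊗[L] M))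
  have : Module.FinitePresentation L' (L' ⊗[L] M) := pointFP n R' S' L' (L' ⊗[L] M) q' hm hrat hn
  exact finitePresentation_of_faithfullyFlat L' M

end Transfer

theorem finitePresentation_of_point' {R R' S L M : Type u} [CommRing R] [CommRing R'] [IsLocalRing R']
    [Algebra R R'] [Module.Flat R R'] [CommRing S] [Algebra R S] [Algebra.FinitePresentation R S]
    [CommRing L] [IsLocalRing L] [Algebra R L] [Algebra S L] [IsScalarTower R S L]
    (q : Ideal S) [q.IsPrime] [IsLocalization.AtPrime L q]
    [AddCommGroup M] [Module L M] [Module R M] [IsScalarTower R L M] [Module.Finite L M] [Module.Flat R M]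
    (S' : Type u) [CommRing S'] [Algebra R S'] [Algebra R' S'] [Algebra S S']
    [IsScalarTower R R' S'] [IsScalarTower R S S'] [Algebra.IsPushout R R' S S']
    (q' : Ideal S') [q'.IsPrime] (hcomap : q'.comap (algebraMap S S') = q)
    (hm : ∀ c ∈ IsLocalRing.maximalIdeal R', algebraMap R' S' c ∈ q')
    (hrat : ∀ z : S', ∃ c : R', z - algebraMap R' S' c ∈ q') : Module.FinitePresentation L M := by
  have hunits : ∀ s : q.primeCompl,
      IsUnit ((algebraMap S' (Localization.AtPrime q')).comp (algebraMap S S') s) := fun s =>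
    IsLocalization.map_units (M := q'.primeCompl) (Localization.AtPrime q')
      (⟨algebraMap S S' s, fun h => s.2 (hcomap.le h)⟩ : q'.primeCompl)
  letI : Algebra L (Localization.AtPrime q') := (IsLocalization.lift (S := L) hunits).toAlgebra
  have : IsScalarTower S L (Localization.AtPrime q') := IsScalarTower.of_algebraMap_eq fun s =>
    (IsScalarTower.algebraMap_apply S S' (Localization.AtPrime q') s).trans
      (IsLocalization.lift_eq (S := L) hunits s).symm
  exact finitePresentation_of_point (R := R) (R' := R') (S' := S') (L' := Localization.AtPrime q') q q'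
    hcomap hm hrat

set_option maxHeartbeats 1000000 in -- one long construction
attribute [local instance] Algebra.TensorProduct.rightAlgebra in
theorem finitePresentation_of_flat_local {R S L M : Type u} [CommRing R] [CommRing S] [Algebra R S]
    [Algebra.FinitePresentation R S] [CommRing L] [IsLocalRing L] [Algebra R L] [Algebra S L]
    [IsScalarTower R S L] (q : Ideal S) [q.IsPrime] [IsLocalization.AtPrime L q]
    [AddCommGroup M] [Module L M] [Module R M] [IsScalarTower R L M] [Module.Finite L M] [Module.Flat R M] :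
    Module.FinitePresentation L M := by
  obtain ⟨N, φ, hφ⟩ := Algebra.FiniteType.iff_quotient_mvPolynomial''.mp
    (inferInstance : Algebra.FiniteType R S)
  let Q : Ideal (MvPolynomial (Fin N) R) := q.comap φ.toRingHom
  let R' := Localization.AtPrime Q
  have hflatR' : Module.Flat R R' := Module.Flat.trans R (MvPolynomial (Fin N) R) R'
  let S' := R' ⊗[R] S
  have hmax : ∀ s, s ∈ q → algebraMap S L s ∈ IsLocalRing.maximalIdeal L := fun s hs => by
    rw [IsLocalRing.mem_maximalIdeal, mem_nonunits_iff, IsLocalization.AtPrime.isUnit_to_map_iff L q]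
    exact fun h => h hs
  let res : S →ₐ[R] IsLocalRing.ResidueField L :=
    ((IsScalarTower.toAlgHom R L _).comp (IsScalarTower.toAlgHom R S L))
  have hres : ∀ s, res s = 0 ↔ s ∈ q := fun s => by
    show IsLocalRing.residue L (algebraMap S L s) = 0 ↔ _
    rw [IsLocalRing.residue_eq_zero_iff]
    refine ⟨fun h => ?_, hmax s⟩
    by_contra hn
    exact (IsLocalRing.mem_maximalIdeal _).mp h (IsLocalization.map_units (M := q.primeCompl) L ⟨s, hn⟩)
  let χ : R' →ₐ[R] IsLocalRing.ResidueField L :=
    IsLocalization.liftAlgHom (M := Q.primeCompl) (f := res.comp φ) fun y => by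
      refine isUnit_iff_ne_zero.mpr ?_
      intro h0
      exact y.2 ((hres _).mp h0)
  let ε : S' →ₐ[R] IsLocalRing.ResidueField L :=
    Algebra.TensorProduct.lift χ res fun _ _ => .all _ _
  let q' : Ideal S' := RingHom.ker ε.toRingHom
  have hq' : q'.IsPrime := RingHom.ker_isPrime _
  have hcomap : q'.comap (algebraMap S S') = q := by
    ext s
    show ε (1 ⊗ₜ s) = 0 ↔ _
    rw [Algebra.TensorProduct.lift_tmul, map_one, one_mul, hres]
  have hχmap : ∀ a, χ (algebraMap (MvPolynomial (Fin N) R) R' a) = res (φ a) := fun a => by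
    show IsLocalization.lift _ _ = _
    exact IsLocalization.lift_eq _ a
  have hm : ∀ c ∈ IsLocalRing.maximalIdeal R', algebraMap R' S' c ∈ q' := by
    intro c hc
    show ε (c ⊗ₜ 1) = 0
    rw [Algebra.TensorProduct.lift_tmul, map_one, mul_one]
    obtain ⟨a, ⟨w, hw⟩, rfl⟩ := IsLocalization.exists_mk'_eq Q.primeCompl c
    have ha : a ∈ Q := by
      by_contra ha
      exact (IsLocalRing.mem_maximalIdeal _).mp hc
        ((IsLocalization.AtPrime.isUnit_mk'_iff R' Q a ⟨w, hw⟩).mpr ha)
    rw [IsLocalization.mk'_eq_mul_mk'_one, map_mul, hχmap, (hres (φ a)).mpr ha, zero_mul]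
  have hsurj : ∀ v : IsLocalRing.ResidueField L, ∃ c, χ c = v := by
    intro v
    obtain ⟨v, rfl⟩ := IsLocalRing.residue_surjective v
    obtain ⟨b, ⟨s, hs⟩, rfl⟩ := IsLocalization.exists_mk'_eq q.primeCompl v
    obtain ⟨b, rfl⟩ := hφ b
    obtain ⟨w, rfl⟩ := hφ s
    refine ⟨IsLocalization.mk' R' b (⟨w, hs⟩ : Q.primeCompl), ?_⟩
    have hne : res (φ w) ≠ 0 := fun h0 => hs ((hres _).mp h0)
    apply mul_left_cancel₀ hne
    calc res (φ w) * χ (IsLocalization.mk' R' b (⟨w, hs⟩ : Q.primeCompl))
        = χ (algebraMap _ R' w * IsLocalization.mk' R' b (⟨w, hs⟩ : Q.primeCompl)) := by rw [map_mul, hχmap]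
      _ = res (φ b) := by rw [IsLocalization.mk'_spec' R' b (⟨w, hs⟩ : Q.primeCompl), hχmap]
      _ = _ := by
        show IsLocalRing.residue L (algebraMap S L (φ b)) =
          IsLocalRing.residue L (algebraMap S L (φ w)) * _
        rw [← map_mul, IsLocalization.mk'_spec' L (φ b) (⟨φ w, hs⟩ : q.primeCompl)]
  have hrat : ∀ z : S', ∃ c : R', z - algebraMap R' S' c ∈ q' := by
    intro z
    obtain ⟨c, hc⟩ := hsurj (ε z)
    refine ⟨c, ?_⟩
    show ε (z - c ⊗ₜ 1) = 0
    rw [map_sub, Algebra.TensorProduct.lift_tmul, map_one, mul_one, hc, sub_self]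
  exact finitePresentation_of_point' (R := R) (R' := R') q (R' ⊗[R] S) q' hcomap hm hrat

end Groth.Agent.FlatCrit65
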