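import Groth.Agent.FlatCrit65.Point.General
import Groth.Agent.FlatCrit65.FlatLocus.Module

/-!
# Flat finite modules are finitely presented near a point when the base is small
-/

universe u

noncomputable section

open TensorProduct

namespace Groth.Agent.FlatCrit65

theorem localized_mk_eq_zero_iff {A M : Type u} [CommRing A] [AddCommGroup M] [Module A M]
    {T : Submonoid A} {m : M} {s : T} : LocalizedModule.mk m s = 0 ↔ ∃ u ∈ T, u • m = 0 := by
  rw [← LocalizedModule.zero_mk s, LocalizedModule.mk_eq]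
  constructor
  · rintro ⟨u, hu⟩
    refine ⟨u * s, T.mul_mem u.2 s.2, ?_⟩
    simp only [Submonoid.smul_def, smul_zero] at hu
    rw [mul_smul]
    exact hu
  · rintro ⟨u, hu, h⟩
    refine ⟨⟨u, hu⟩, ?_⟩
    simp only [Submonoid.smul_def, smul_zero]
    rw [smul_comm, h, smul_zero]

/-- If the ring elements `r i` have no common nonzero annihilator, then an element of a flat module
killed by all of them is zero. -/
theorem eq_zero_of_flat_of_smul_eq_zero {R M : Type u} [CommRing R] [AddCommGroup M] [Module R M]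
    [Module.Flat R M] {ι : Type} [Fintype ι] [DecidableEq ι] (r : ι → R)
    (hr : ∀ c : R, (∀ i, r i * c = 0) → c = 0) (x : M) (hx : ∀ i, r i • x = 0) : x = 0 := by
  let φ : R →ₗ[R] (ι → R) := LinearMap.pi fun i => LinearMap.mulLeft R (r i)
  have hφ : Function.Injective φ := (injective_iff_map_eq_zero φ).mpr fun c hc => hr c (fun i => congrFun hc i)
  have h := Module.Flat.lTensor_preserves_injective_linearMap (M := M) φ hφ
  have h0 : φ.lTensor M (x ⊗ₜ[R] (1 : R)) = 0 := by
    rw [LinearMap.lTensor_tmul]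
    have : φ 1 = ∑ i, r i • Pi.single i (1 : R) := by
      funext j
      simp [φ, Finset.sum_apply, Pi.single_apply]
    rw [this, TensorProduct.tmul_sum]
    refine Finset.sum_eq_zero fun i _ => ?_
    rw [TensorProduct.tmul_smul, TensorProduct.smul_tmul', hx i, TensorProduct.zero_tmul]
  have := h (h0.trans (map_zero _).symm)
  simpa using congrArg (TensorProduct.rid R M) this

section

variable {R A N : Type u} [CommRing R] [CommRing A] [Algebra R A] [Algebra.FinitePresentation R A]
  [AddCommGroup N] [Module A N] [Module R N] [IsScalarTower R A N] [Module.Finite A N]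

theorem flat_powers_of_forall {M : Type u} [AddCommGroup M] [Module A M] [Module R M] [IsScalarTower R A M]
    (g : A) (h : ∀ q : PrimeSpectrum A, g ∉ q.asIdeal → Module.Flat R (LocalizedModule q.asIdeal.primeCompl M)) :
    Module.Flat R (LocalizedModule (Submonoid.powers g) M) := by
  rw [Module.Flat.iff_lTensor_injective']
  intro I
  refine injective_lTensor_localized (Submonoid.powers g) _ fun z hz => ?_
  let Ann : Ideal A :=
    { carrier := {a | a • z = 0}
      add_mem' := fun {a b} ha hb => by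
        show (a + b) • z = 0
        rw [add_smul, show a • z = 0 from ha, show b • z = 0 from hb, add_zero]
      zero_mem' := zero_smul _ z
      smul_mem' := fun a b hb => by
        show (a * b) • z = 0
        rw [mul_smul, show b • z = 0 from hb, smul_zero] }
  have : g ∈ Ann.radical := by
    rw [Ideal.radical_eq_sInf, Ideal.mem_sInf]
    rintro P ⟨hAP, hP⟩
    by_contra hg
    obtain ⟨s, hs, hsz⟩ := (flat_localized_iff_kernels P).mp (h ⟨P, hP⟩ hg) I z hz
    exact hs (hAP hsz)
  obtain ⟨n, hn⟩ := this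
  exact ⟨g ^ n, ⟨n, rfl⟩, hn⟩

omit [Algebra.FinitePresentation R A] [Module R N] [IsScalarTower R A N] [Module.Finite A N] in
theorem exists_fg_le_ker_at {k : ℕ} (π : (Fin k → A) →ₗ[A] N) (hπ : Function.Surjective π)
    (T : Submonoid A) [Module.FinitePresentation (Localization T) (LocalizedModule T N)] :
    ∃ K₀ : Submodule A (Fin k → A), K₀.FG ∧ K₀ ≤ LinearMap.ker π ∧
      ∀ x ∈ LinearMap.ker π, ∃ s ∈ T, s • x ∈ K₀ := by
  classical
  let πT := LocalizedModule.map T π
  have hsurj : Function.Surjective πT := LocalizedModule.map_surjective T π hπ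
  have : Module.Finite (Localization T) (LocalizedModule T (Fin k → A)) :=
    Module.Finite.of_isLocalizedModule T (LocalizedModule.mkLinearMap T (Fin k → A))
  obtain ⟨G, hG⟩ := Module.FinitePresentation.fg_ker πT hsurj
  have hgen : ∀ v ∈ G, ∃ (x : Fin k → A) (s : T), π x = 0 ∧ s • v = LocalizedModule.mkLinearMap T (Fin k → A) x := by
    intro v hv
    obtain ⟨⟨x, s⟩, hxs⟩ := IsLocalizedModule.surj T (LocalizedModule.mkLinearMap T (Fin k → A)) v
    have hv0 : πT v = 0 := by
      have : v ∈ Submodule.span (Localization T) (G : Set (LocalizedModule T (Fin k → A))) :=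
        Submodule.subset_span hv
      rw [hG] at this
      exact this
    have h0 : LocalizedModule.mkLinearMap T N (π x) = 0 := by
      have h1 : πT (LocalizedModule.mkLinearMap T (Fin k → A) x) = LocalizedModule.mkLinearMap T N (π x) := by
        simp [πT, LocalizedModule.map_mk, LocalizedModule.mkLinearMap_apply]
      rw [← h1, ← hxs, LinearMap.map_smul_of_tower, hv0, smul_zero]
    obtain ⟨u, hu⟩ := (IsLocalizedModule.eq_zero_iff T _).mp h0
    refine ⟨u • x, u * s, ?_, ?_⟩
    · rw [LinearMap.map_smul_of_tower, hu]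
    · rw [mul_smul, hxs, LinearMap.map_smul_of_tower]
  choose! x s hx0 hxs using hgen
  refine ⟨Submodule.span A (G.image x : Set (Fin k → A)), Submodule.fg_span (Finset.finite_toSet _), ?_, ?_⟩
  · rw [Submodule.span_le, Finset.coe_image]
    rintro _ ⟨v, hv, rfl⟩
    exact hx0 v hv
  · intro y hy
    set K₀ := Submodule.span A (G.image x : Set (Fin k → A))
    have hy0 : LocalizedModule.mkLinearMap T (Fin k → A) y ∈ LinearMap.ker πT := by
      simp [πT, LocalizedModule.map_mk, LocalizedModule.mkLinearMap_apply,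
        show π y = 0 from hy, LocalizedModule.zero_mk]
    rw [← hG] at hy0
    have hle : Submodule.span (Localization T) (G : Set (LocalizedModule T (Fin k → A))) ≤
        K₀.localized' (Localization T) T (LocalizedModule.mkLinearMap T (Fin k → A)) := by
      rw [Submodule.span_le]
      intro v hv
      refine ⟨x v, Submodule.subset_span (Finset.mem_coe.mpr (Finset.mem_image_of_mem x hv)), s v, ?_⟩
      rw [IsLocalizedModule.mk'_eq_iff, hxs v hv]
    obtain ⟨w, hw, t, ht⟩ := hle hy0
    rw [IsLocalizedModule.mk'_eq_iff, ← LinearMap.map_smul_of_tower] at ht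
    obtain ⟨u, hu⟩ := (IsLocalizedModule.eq_iff_exists T _).mp ht
    refine ⟨u * t, mul_mem u.2 t.2, ?_⟩
    rw [mul_smul]
    show u • (t • y) ∈ K₀
    rw [← hu]
    exact K₀.smul_mem _ hw

theorem exists_fp_nhd {k : ℕ} (π : (Fin k → A) →ₗ[A] N) (hπ : Function.Surjective π)
    {ι : Type} [Fintype ι] (U : ι → Submonoid R) (hU : ∀ c : R, (∀ i, ∃ r ∈ U i, r * c = 0) → c = 0)
    (hfgU : ∀ i, ∃ K : Submodule A (Fin k → A), K.FG ∧ K ≤ LinearMap.ker π ∧
      ∀ x ∈ LinearMap.ker π, ∃ r ∈ U i, algebraMap R A r • x ∈ K)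
    (q : Ideal A) [q.IsPrime] (hflat : Module.Flat R (LocalizedModule q.primeCompl N)) :
    ∃ g : A, g ∉ q ∧ (∀ q' : PrimeSpectrum A, g ∉ q'.asIdeal →
        Module.Flat R (LocalizedModule q'.asIdeal.primeCompl N)) ∧
      ∃ K₀ : Submodule A (Fin k → A), K₀.FG ∧ K₀ ≤ LinearMap.ker π ∧
        ∀ x ∈ LinearMap.ker π, ∃ m : ℕ, g ^ m • x ∈ K₀ := by
  classical
  have : Module.Finite (Localization.AtPrime q) (LocalizedModule q.primeCompl N) :=
    Module.Finite.of_isLocalizedModule q.primeCompl (LocalizedModule.mkLinearMap q.primeCompl N)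
  have : Module.FinitePresentation (Localization.AtPrime q) (LocalizedModule q.primeCompl N) :=
    finitePresentation_of_flat_local (R := R) q
  obtain ⟨Kq, hKqfg, hKqle, hKq⟩ := exists_fg_le_ker_at π hπ q.primeCompl
  choose K hKfg hKle hK using hfgU
  let K₀ : Submodule A (Fin k → A) := Kq ⊔ ⨆ i, K i
  have hK₀fg : K₀.FG := hKqfg.sup (Submodule.fg_iSup _ hKfg)
  have hK₀le : K₀ ≤ LinearMap.ker π := sup_le hKqle (iSup_le hKle)
  let M₀ := (Fin k → A) ⧸ K₀
  have : Module.FinitePresentation A M₀ :=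
    Module.finitePresentation_of_surjective K₀.mkQ K₀.mkQ_surjective (by rwa [Submodule.ker_mkQ])
  let ρ : M₀ →ₗ[A] N := K₀.liftQ π hK₀le
  have hρ : Function.Surjective ρ := fun n => by
    obtain ⟨x, rfl⟩ := hπ n
    exact ⟨K₀.mkQ x, rfl⟩
  have hρq : ∀ m : M₀, ρ m = 0 → ∃ s ∉ q, s • m = 0 := by
    intro m hm
    obtain ⟨x, rfl⟩ := K₀.mkQ_surjective m
    obtain ⟨s, hs, hsx⟩ := hKq x hm
    exact ⟨s, hs, by rw [← map_smul]; exact (Submodule.Quotient.mk_eq_zero _).mpr (Submodule.mem_sup_left hsx)⟩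
  have hflat₀ : Module.Flat R (LocalizedModule q.primeCompl M₀) := by
    have hbij : Function.Bijective (LocalizedModule.map q.primeCompl ρ) := by
      refine ⟨?_, LocalizedModule.map_surjective _ ρ hρ⟩
      rw [injective_iff_map_eq_zero]
      intro v hv
      induction v using LocalizedModule.induction_on with
      | h m s =>
        rw [LocalizedModule.map_mk, localized_mk_eq_zero_iff] at hv
        obtain ⟨u, hu, hum⟩ := hv
        obtain ⟨s', hs', hsm⟩ := hρq (u • m) (by rw [map_smul, hum])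
        rw [localized_mk_eq_zero_iff]
        exact ⟨s' * u, q.primeCompl.mul_mem hs' hu, by rw [mul_smul, hsm]⟩
    have e := LinearEquiv.ofBijective (LocalizedModule.map q.primeCompl ρ) hbij
    exact Module.Flat.of_linearEquiv (e.restrictScalars R)
  obtain ⟨_, ⟨g, rfl⟩, hqg, hgU⟩ :=
    PrimeSpectrum.isTopologicalBasis_basic_opens.exists_subset_of_mem_open
      (show (⟨q, ‹_›⟩ : PrimeSpectrum A) ∈ {q' : PrimeSpectrum A |
        Module.Flat R (LocalizedModule q'.asIdeal.primeCompl M₀)} from hflat₀)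
      isOpen_flat_locus_module
  have hg : g ∉ q := hqg
  have hflatg : Module.Flat R (LocalizedModule (Submonoid.powers g) M₀) :=
    flat_powers_of_forall g fun q' hq' => hgU hq'
  have hker : ∀ m : M₀, ρ m = 0 → ∃ j : ℕ, g ^ j • m = 0 := by
    intro m hm
    obtain ⟨x, rfl⟩ := K₀.mkQ_surjective m
    choose r hr hrx using fun i => hK i x hm
    have h0 : LocalizedModule.mkLinearMap (Submonoid.powers g) M₀ (K₀.mkQ x) = 0 := by
      refine eq_zero_of_flat_of_smul_eq_zero r ?_ _ fun i => ?_
      · intro c hc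
        exact hU c fun i => ⟨r i, hr i, hc i⟩
      · rw [← algebraMap_smul A (r i), ← map_smul, ← map_smul,
          show K₀.mkQ (algebraMap R A (r i) • x) = 0 from (Submodule.Quotient.mk_eq_zero _).mpr
            (Submodule.mem_sup_right (Submodule.mem_iSup_of_mem i (hrx i))), map_zero]
    obtain ⟨⟨_, j, rfl⟩, hj⟩ := (IsLocalizedModule.eq_zero_iff (Submonoid.powers g) _).mp h0
    exact ⟨j, hj⟩
  refine ⟨g, hg, fun q' hq' => ?_, K₀, hK₀fg, hK₀le, fun x hx => ?_⟩
  · have hbij : Function.Bijective (LocalizedModule.map q'.asIdeal.primeCompl ρ) := by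
      refine ⟨?_, LocalizedModule.map_surjective _ ρ hρ⟩
      rw [injective_iff_map_eq_zero]
      intro v hv
      induction v using LocalizedModule.induction_on with
      | h m s =>
        rw [LocalizedModule.map_mk, localized_mk_eq_zero_iff] at hv
        obtain ⟨u, hu, hum⟩ := hv
        obtain ⟨j, hj⟩ := hker (u • m) (by rw [map_smul, hum])
        rw [localized_mk_eq_zero_iff]
        exact ⟨g ^ j * u, q'.asIdeal.primeCompl.mul_mem (fun h => hq' (q'.isPrime.mem_of_pow_mem j h)) hu,
          by rw [mul_smul, hj]⟩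
    have : Module.Flat R (LocalizedModule q'.asIdeal.primeCompl M₀) := hgU hq'
    exact Module.Flat.of_linearEquiv ((LinearEquiv.ofBijective _ hbij).restrictScalars R).symm
  · obtain ⟨j, hj⟩ := hker (K₀.mkQ x) hx
    exact ⟨j, (Submodule.Quotient.mk_eq_zero K₀).mp (by rw [← map_smul] at hj; exact hj)⟩

theorem isOpen_flat_locus_small {ι : Type} [Fintype ι] (U : ι → Submonoid R)
    (hU : ∀ c : R, (∀ i, ∃ r ∈ U i, r * c = 0) → c = 0)
    {k : ℕ} (π : (Fin k → A) →ₗ[A] N) (hπ : Function.Surjective π)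
    (hfgU : ∀ i, ∃ K : Submodule A (Fin k → A), K.FG ∧ K ≤ LinearMap.ker π ∧
      ∀ x ∈ LinearMap.ker π, ∃ r ∈ U i, algebraMap R A r • x ∈ K) :
    IsOpen {q : PrimeSpectrum A | Module.Flat R (LocalizedModule q.asIdeal.primeCompl N)} := by
  rw [isOpen_iff_forall_mem_open]
  intro q hq
  obtain ⟨g, hg, hgflat, -⟩ := exists_fp_nhd π hπ U hU hfgU q.asIdeal hq
  exact ⟨PrimeSpectrum.basicOpen g, fun q' hq' => hgflat q' hq', PrimeSpectrum.isOpen_basicOpen, hg⟩

theorem finitePresentation_small [Module.Flat R N] {ι : Type} [Fintype ι] (U : ι → Submonoid R)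
    (hU : ∀ c : R, (∀ i, ∃ r ∈ U i, r * c = 0) → c = 0)
    {k : ℕ} (π : (Fin k → A) →ₗ[A] N) (hπ : Function.Surjective π)
    (hfgU : ∀ i, ∃ K : Submodule A (Fin k → A), K.FG ∧ K ≤ LinearMap.ker π ∧
      ∀ x ∈ LinearMap.ker π, ∃ r ∈ U i, algebraMap R A r • x ∈ K) :
    Module.FinitePresentation A N := by
  classical
  have hflat : ∀ q : PrimeSpectrum A, Module.Flat R (LocalizedModule q.asIdeal.primeCompl N) := fun q => by
    rw [flat_localized_iff_kernels]
    intro I z hz
    refine ⟨1, q.isPrime.one_notMem, ?_⟩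
    have := Module.Flat.lTensor_preserves_injective_linearMap (M := N) I.subtype Subtype.val_injective
    rw [one_smul]
    exact this (hz.trans (map_zero _).symm)
  choose g hg hgflat K₀ hK₀fg hK₀le hK₀ using fun q : PrimeSpectrum A =>
    exists_fp_nhd π hπ U hU hfgU q.asIdeal (hflat q)
  obtain ⟨t, ht⟩ := isCompact_univ.elim_finite_subcover (fun q => (PrimeSpectrum.basicOpen (g q) : Set (PrimeSpectrum A)))
    (fun q => PrimeSpectrum.isOpen_basicOpen) (fun q _ => Set.mem_iUnion.mpr ⟨q, hg q⟩)
  have hK : LinearMap.ker π = ⨆ q ∈ t, K₀ q := by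
    refine le_antisymm (fun x hx => ?_) (iSup₂_le fun q _ => hK₀le q)
    set K' := ⨆ q ∈ t, K₀ q
    have h : (K'.colon {x} : Ideal A) = ⊤ := by
      by_contra hc
      obtain ⟨P, hP, hle⟩ := Ideal.exists_le_maximal _ hc
      obtain ⟨q, hq, hPq⟩ := Set.mem_iUnion₂.mp (ht (Set.mem_univ (⟨P, hP.isPrime⟩ : PrimeSpectrum A)))
      obtain ⟨m, hm⟩ := hK₀ q x hx
      exact hPq (hP.isPrime.mem_of_pow_mem m (hle (Submodule.mem_colon_singleton.mpr
        (Submodule.mem_iSup_of_mem q (Submodule.mem_iSup_of_mem hq hm)))))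
    have h1 : (1 : A) ∈ K'.colon {x} := by rw [h]; trivial
    simpa using Submodule.mem_colon_singleton.mp h1
  refine Module.finitePresentation_of_surjective π hπ ?_
  rw [hK]
  exact Submodule.fg_biSup t _ fun q _ => hK₀fg q

end

end Groth.Agent.FlatCrit65
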