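import Groth.Agent.FlatCrit65.Point.Split

/-!
# Flat finite modules at a rational point are finitely presented
-/

universe u

noncomputable section

open Polynomial TensorProduct

namespace Groth.Agent.FlatCrit65

/-- The statement proved by induction on the dimension of the closed fibre. -/
def PointFP (n : ℕ) : Prop :=
  ∀ (R S L M : Type u) [CommRing R] [IsLocalRing R] [CommRing S] [Algebra R S]
    [Algebra.FinitePresentation R S] [CommRing L] [IsLocalRing L] [Algebra R L] [Algebra S L]
    [IsScalarTower R S L] (q : Ideal S) [q.IsPrime] [IsLocalization.AtPrime L q]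
    [AddCommGroup M] [Module L M] [Module R M] [IsScalarTower R L M] [Module.Finite L M] [Module.Flat R M],
    (∀ c ∈ IsLocalRing.maximalIdeal R, algebraMap R S c ∈ q) →
    (∀ s : S, ∃ c : R, s - algebraMap R S c ∈ q) →
    ringKrullDim (L ⧸ (IsLocalRing.maximalIdeal R).map (algebraMap R L)) < (n : ℕ) →
    Module.FinitePresentation L M

section PointRing

variable {R : Type u} [CommRing R] [IsLocalRing R] {k : ℕ} (d : PtData R k) (D : Type u) [CommRing D]
  [IsLocalRing D] [Algebra R D] [Algebra (QuotA d.f) D] [IsScalarTower R (QuotA d.f) D]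
  [IsLocalization (ptSub d.f d.a) D]

/-- The structure map of the point ring. -/
def ptHom : PolyA R k →ₐ[R] D :=
  (IsScalarTower.toAlgHom R (QuotA d.f) D).comp ((AdjoinRoot.mkₐ d.f).restrictScalars R)

omit [IsLocalRing R] [IsLocalRing D] [IsLocalization (ptSub d.f d.a) D] in
theorem ptHom_apply (p : PolyA R k) : ptHom d D p = algebraMap (QuotA d.f) D (AdjoinRoot.mk d.f p) := rfl

omit [IsLocalRing R] [IsLocalRing D] in
theorem isPointRing_ptHom : IsPointRing d (ptHom d D) := by
  refine ⟨fun s hs => IsLocalization.map_units D (⟨_, ptSub_mk_mem hs⟩ : ptSub d.f d.a), fun v => ?_,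
    fun p => ?_⟩
  · obtain ⟨x, ⟨_, s, hs, rfl⟩, rfl⟩ := IsLocalization.exists_mk'_eq (ptSub d.f d.a) v
    obtain ⟨p, rfl⟩ := AdjoinRoot.mk_surjective x
    exact ⟨s, p, hs, IsLocalization.mk'_spec' D _ (⟨_, s, hs, rfl⟩ : ptSub d.f d.a)⟩
  · rw [ptHom_apply, IsLocalization.map_eq_zero_iff (ptSub d.f d.a) D]
    constructor
    · rintro ⟨⟨_, s, hs, rfl⟩, h⟩
      refine ⟨s, hs, ?_⟩
      rw [← map_mul, AdjoinRoot.mk_eq_zero] at h
      exact Ideal.mem_span_singleton.mpr h
    · rintro ⟨s, hs, h⟩
      refine ⟨⟨_, ptSub_mk_mem hs⟩, ?_⟩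
      show AdjoinRoot.mk d.f s * AdjoinRoot.mk d.f p = 0
      rw [← map_mul, AdjoinRoot.mk_eq_zero]
      exact Ideal.mem_span_singleton.mp h

include d in
theorem ringKrullDim_closedFibre_point :
    ringKrullDim (D ⧸ (IsLocalRing.maximalIdeal R).map (algebraMap R D)) ≤ k := by
  have h := isPointRing_ptHom d D
  set mD := (IsLocalRing.maximalIdeal R).map (algebraMap R D)
  have : Algebra.FinitePresentation R (QuotA d.f) :=
    Algebra.FinitePresentation.quotient (Submodule.fg_span_singleton _)
  have : Algebra.EssFiniteType R D :=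
    have := Algebra.EssFiniteType.of_isLocalization (S := D) (ptSub d.f d.a)
    Algebra.EssFiniteType.comp R (QuotA d.f) D
  have : IsNoetherianRing (D ⧸ mD) := isNoetherianRing_closedFibre D
  have hne : mD ≠ ⊤ := h.contentRing.prime.ne_top
  have : Nontrivial (D ⧸ mD) := Ideal.Quotient.nontrivial_iff.mpr hne
  have : IsLocalRing (D ⧸ mD) := .of_surjective' _ Ideal.Quotient.mk_surjective
  refine le_trans (ringKrullDim_le_spanFinrank_maximalIdeal _) ?_
  have hmax : IsLocalRing.maximalIdeal (D ⧸ mD) =
      Ideal.span (Set.range fun i => Ideal.Quotient.mk mD (ptHom d D (Polynomial.C (MvPolynomial.X i)))) := by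
    refine le_antisymm ?_ (Ideal.span_le.mpr ?_)
    · intro x hx
      obtain ⟨v, rfl⟩ := Ideal.Quotient.mk_surjective x
      have hv : v ∈ IsLocalRing.maximalIdeal D := by
        rw [IsLocalRing.mem_maximalIdeal] at hx ⊢
        exact fun hu => hx (hu.map _)
      have := Ideal.mem_map_of_mem (Ideal.Quotient.mk mD) (h.maximalIdeal_le hv)
      rwa [Ideal.map_sup, Ideal.map_quotient_self, bot_sup_eq, Ideal.map_span, ← Set.range_comp] at this
    · rintro _ ⟨i, rfl⟩
      rw [SetLike.mem_coe, IsLocalRing.mem_maximalIdeal]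
      intro hu
      have hl : IsLocalHom (Ideal.Quotient.mk mD) := IsLocalHom.of_surjective _ Ideal.Quotient.mk_surjective
      have hu' := isUnit_of_map_unit _ _ hu
      obtain ⟨w, hw⟩ := hu'.exists_left_inv
      obtain ⟨s, p, hs, hp⟩ := h.frac w
      have h1 : ptHom d D (p * Polynomial.C (MvPolynomial.X i) - s) = 0 := by
        rw [map_sub, map_mul, ← hp, mul_assoc, hw, mul_one, sub_self]
      obtain ⟨s', hs', hz⟩ := (h.eq_zero _).mp h1
      obtain ⟨r, hr⟩ := Ideal.mem_span_singleton'.mp hz
      have h2 := congrArg (secHom d.a) hr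
      rw [map_mul, d.sec_f, mul_zero, map_mul, map_sub, map_mul, secHom_C_X, mul_zero, zero_sub,
        mul_neg, eq_comm, neg_eq_zero] at h2
      exact (hs'.mul hs).ne_zero h2
  rw [hmax]
  refine le_trans (Nat.cast_le.mpr (Submodule.spanFinrank_span_le_ncard_of_finite (Set.finite_range _))) ?_
  refine Nat.cast_le.mpr ?_
  rw [← Set.image_univ]
  exact (Set.ncard_image_le Set.finite_univ).trans (by simp)

variable (M : Type u) [AddCommGroup M] [Module D M] [Module R M] [IsScalarTower R D M]
  [Module.Finite D M] [Module.Flat R M]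

include d in
theorem finitePresentation_point {n : ℕ} (IH : PointFP.{u} n) (hk : k ≤ n) :
    Module.FinitePresentation D M := by
  have h := isPointRing_ptHom d D
  obtain ⟨r, α, hinj, hflat, t, ht, hrange⟩ := exists_free_sub (N := M) h.contentRing
  by_cases htu : IsUnit t
  · have hsurj : Function.Surjective α := fun x => by
      obtain ⟨e, he⟩ := hrange x
      obtain ⟨w, hw⟩ := htu.exists_left_inv
      exact ⟨w • e, by rw [map_smul, he, smul_smul, hw, one_smul]⟩
    exact Module.finitePresentation_of_surjective α hsurj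
      (by rw [LinearMap.ker_eq_bot.mpr hinj]; exact Submodule.fg_bot)
  set C := M ⧸ LinearMap.range α
  obtain ⟨s, p, hs, hp⟩ := h.frac t
  let A := QuotA d.f
  have hAfp : Algebra.FinitePresentation R A :=
    Algebra.FinitePresentation.quotient (Submodule.fg_span_singleton _)
  obtain ⟨x, hx⟩ : ∃ x, x = AdjoinRoot.mk d.f p := ⟨_, rfl⟩
  let S₂ := A ⧸ Ideal.span {x}
  have hS₂ : Algebra.FinitePresentation R S₂ :=
    Algebra.FinitePresentation.quotient (Submodule.fg_span_singleton _)
  let I : Ideal D := Ideal.span {t}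
  have hxI : algebraMap A D x ∈ I := by
    rw [hx, ← ptHom_apply, ← hp]
    exact Ideal.mul_mem_left _ _ (Ideal.mem_span_singleton_self t)
  let L₂ := D ⧸ I
  let ψ : S₂ →+* L₂ := Ideal.Quotient.lift (Ideal.span {x}) ((Ideal.Quotient.mk I).comp (algebraMap A D))
    (fun a ha => by
      obtain ⟨b, rfl⟩ := Ideal.mem_span_singleton'.mp ha
      rw [RingHom.comp_apply, map_mul]
      exact Ideal.Quotient.eq_zero_iff_mem.mpr (Ideal.mul_mem_left _ _ hxI))
  letI : Algebra S₂ L₂ := ψ.toAlgebra
  have : IsScalarTower R S₂ L₂ := IsScalarTower.of_algebraMap_eq fun c => by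
    show Ideal.Quotient.mk I (algebraMap R D c) = Ideal.Quotient.mk I (algebraMap A D (algebraMap R A c))
    rw [← IsScalarTower.algebraMap_apply]
  have hItop : I ≠ ⊤ := fun hI => htu (Ideal.span_singleton_eq_top.mp hI)
  have : Nontrivial L₂ := Ideal.Quotient.nontrivial_iff.mpr hItop
  have hL₂loc : IsLocalRing L₂ := .of_surjective' _ Ideal.Quotient.mk_surjective
  have hloc : IsLocalization ((ptSub d.f d.a).map (Ideal.Quotient.mk (Ideal.span {x}))) L₂ := by
    refine IsLocalization.of_surjective (ptSub d.f d.a) (S := D) (Ideal.Quotient.mk (Ideal.span {x})) Ideal.Quotient.mk_surjective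
      (Ideal.Quotient.mk I) Ideal.Quotient.mk_surjective rfl ?_
    rw [Ideal.mk_ker, Ideal.mk_ker, Ideal.map_span, Set.image_singleton, Ideal.span_le, Set.singleton_subset_iff]
    obtain ⟨w, hw⟩ := (h.unit s hs).exists_left_inv
    have : t = w * algebraMap A D x := by rw [hx, ← ptHom_apply, ← hp, ← mul_assoc, hw, one_mul]
    rw [SetLike.mem_coe, this]
    exact Ideal.mul_mem_left _ _ (Ideal.mem_span_singleton_self _)
  obtain ⟨q, _, hq, _⟩ := exists_isLocalization_atPrime (A := S₂) (L := L₂)
    ((ptSub d.f d.a).map (Ideal.Quotient.mk (Ideal.span {x})))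
  have hm : ∀ c ∈ IsLocalRing.maximalIdeal R, algebraMap R S₂ c ∈ q := by
    intro c hc
    rw [hq, Ideal.mem_comap, ← IsScalarTower.algebraMap_apply, IsLocalRing.mem_maximalIdeal]
    intro hu
    have hl : IsLocalHom (Ideal.Quotient.mk I) := IsLocalHom.of_surjective _ Ideal.Quotient.mk_surjective
    have hu' : IsUnit (algebraMap R D c) := isUnit_of_map_unit (Ideal.Quotient.mk I) _ hu
    exact h.contentRing.prime.ne_top (Ideal.eq_top_of_isUnit_mem _ (Ideal.mem_map_of_mem _ hc) hu')
  have hrat : ∀ z : S₂, ∃ c : R, z - algebraMap R S₂ c ∈ q := by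
    intro z
    obtain ⟨z, rfl⟩ := Ideal.Quotient.mk_surjective z
    obtain ⟨p', rfl⟩ := AdjoinRoot.mk_surjective z
    refine ⟨secHom d.a p', ?_⟩
    rw [hq, Ideal.mem_comap, IsLocalRing.mem_maximalIdeal]
    intro hu
    have hl : IsLocalHom (Ideal.Quotient.mk I) := IsLocalHom.of_surjective _ Ideal.Quotient.mk_surjective
    have hu' : IsUnit (ptHom d D (p' - algebraMap R (PolyA R k) (secHom d.a p'))) := by
      refine isUnit_of_map_unit (Ideal.Quotient.mk I) _ ?_
      rw [map_sub, AlgHom.commutes]
      rw [map_sub, ← IsScalarTower.algebraMap_apply] at hu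
      exact hu
    obtain ⟨w, hw⟩ := hu'.exists_left_inv
    obtain ⟨s₁, p₁, hs₁, hp₁⟩ := h.frac w
    have h1 : ptHom d D (p₁ * (p' - algebraMap R (PolyA R k) (secHom d.a p')) - s₁) = 0 := by
      rw [map_sub, map_mul, ← hp₁, mul_assoc, hw, mul_one, sub_self]
    obtain ⟨s', hs', hz⟩ := (h.eq_zero _).mp h1
    obtain ⟨r', hr⟩ := Ideal.mem_span_singleton'.mp hz
    have h2 := congrArg (secHom d.a) hr
    have hc : secHom d.a (algebraMap R (PolyA R k) (secHom d.a p')) = secHom d.a p' := by
      simp [secHom, Polynomial.algebraMap_eq, IsScalarTower.algebraMap_apply R (MvPolynomial (Fin k) R)]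
    rw [map_mul, d.sec_f, mul_zero, map_mul, map_sub, map_mul, map_sub, hc, sub_self, mul_zero, zero_sub,
      mul_neg, eq_comm, neg_eq_zero] at h2
    exact (hs'.mul hs₁).ne_zero h2
  have htC : ∀ c : C, t • c = 0 := fun c => by
    obtain ⟨y, rfl⟩ := Submodule.mkQ_surjective (LinearMap.range α) c
    rw [← map_smul]
    exact (Submodule.Quotient.mk_eq_zero _).mpr (hrange y)
  have htors : Module.IsTorsionBySet D C (I : Set D) :=
    Module.isTorsionBySet_iff_is_torsion_by_span _ |>.mp fun c a => by
      obtain ⟨a, rfl⟩ := a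
      exact htC c
  letI : Module L₂ C := htors.module
  have : IsScalarTower D L₂ C := htors.isScalarTower
  have : IsScalarTower R L₂ C := IsScalarTower.of_algebraMap_smul fun c m => by
    show (Ideal.Quotient.mk I (algebraMap R D c)) • m = c • m
    rw [Module.IsTorsionBySet.mk_smul, algebraMap_smul]
  have : Module.Finite L₂ C := Module.Finite.of_restrictScalars_finite D L₂ C
  have hdim : ringKrullDim (L₂ ⧸ (IsLocalRing.maximalIdeal R).map (algebraMap R L₂)) < (n : ℕ) := by
    set mD := (IsLocalRing.maximalIdeal R).map (algebraMap R D)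
    have := h.contentRing.prime
    have hdom : IsDomain (D ⧸ mD) := inferInstance
    have htb : Ideal.Quotient.mk mD t ∈ nonZeroDivisors (D ⧸ mD) :=
      mem_nonZeroDivisors_of_ne_zero fun h0 => ht (Ideal.Quotient.eq_zero_iff_mem.mp h0)
    have h1 := ringKrullDim_quotient_succ_le_of_nonZeroDivisor htb
    have h2 := ringKrullDim_closedFibre_point d D
    have e : (L₂ ⧸ (IsLocalRing.maximalIdeal R).map (algebraMap R L₂)) ≃+*
        ((D ⧸ mD) ⧸ Ideal.span {Ideal.Quotient.mk mD t}) := by
      refine RingEquiv.trans (Ideal.quotEquivOfEq (show _ = mD.map (Ideal.Quotient.mk I) by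
        rw [Ideal.map_map]; rfl)) ?_
      refine RingEquiv.trans (DoubleQuot.quotQuotEquivComm I mD) (Ideal.quotEquivOfEq ?_)
      rw [Ideal.map_span, Set.image_singleton]
    rw [ringKrullDim_eq_of_ringEquiv e]
    have h3 := (h1.trans h2).trans (Nat.cast_le.mpr hk : ((k : ℕ) : WithBot ℕ∞) ≤ (n : ℕ))
    revert h3
    generalize ringKrullDim ((D ⧸ mD) ⧸ Ideal.span {Ideal.Quotient.mk mD t}) = z
    intro h3
    cases z with
    | bot => exact WithBot.bot_lt_coe _
    | coe z =>
      cases z with
      | top =>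
        exfalso
        rw [← WithBot.coe_one, ← WithBot.coe_add, top_add] at h3
        exact absurd (WithBot.coe_le_coe.mp h3) (by simp)
      | coe z =>
        norm_cast at h3 ⊢
  have hCfp : Module.FinitePresentation L₂ C := IH R S₂ L₂ C q hm hrat hdim
  have : Module.FinitePresentation D L₂ :=
    Module.finitePresentation_of_surjective (Submodule.mkQ I) (Submodule.mkQ_surjective _)
      (by rw [Submodule.ker_mkQ]; exact Submodule.fg_span_singleton t)
  have hCD : Module.FinitePresentation D C := Module.FinitePresentation.trans D C L₂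
  have : Module.FinitePresentation D (Fin r → D) := inferInstance
  have : Module.FinitePresentation D (LinearMap.ker (LinearMap.range α).mkQ) := by
    rw [Submodule.ker_mkQ]
    exact Module.finitePresentation_of_surjective α.rangeRestrict α.surjective_rangeRestrict
      (by rw [LinearMap.ker_rangeRestrict, LinearMap.ker_eq_bot.mpr hinj]; exact Submodule.fg_bot)
  exact Module.finitePresentation_of_ker (LinearMap.range α).mkQ (Submodule.mkQ_surjective _)

end PointRing

theorem pointFP : ∀ n : ℕ, PointFP.{u} n := by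
  intro n
  induction n with
  | zero =>
    intro R S L M _ _ _ _ _ _ _ _ _ _ q _ _ _ _ _ _ _ _ hm _ hdim
    exfalso
    have hne : (IsLocalRing.maximalIdeal R).map (algebraMap R L) ≠ ⊤ := by
      refine ne_top_of_le_ne_top (IsLocalRing.maximalIdeal.isMaximal L).ne_top ?_
      rw [Ideal.map_le_iff_le_comap]
      intro c hc
      rw [Ideal.mem_comap, IsScalarTower.algebraMap_apply R S L, IsLocalRing.mem_maximalIdeal,
        mem_nonunits_iff, IsLocalization.AtPrime.isUnit_to_map_iff L q]
      exact fun h => h (hm c hc)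
    have : Nontrivial (L ⧸ (IsLocalRing.maximalIdeal R).map (algebraMap R L)) :=
      Ideal.Quotient.nontrivial_iff.mpr hne
    exact not_lt.mpr ringKrullDim_nonneg_of_nontrivial (by simpa using hdim)
  | succ n IH =>
    intro R S L M _ _ _ _ _ _ _ _ _ _ q _ _ _ _ _ _ _ _ hm hrat hdim
    obtain ⟨k, hk, t, htq, hmin⟩ := exists_parameters (L := L) q hm n hdim
    letI : Algebra (MvPolynomial (Fin k) R) S := (MvPolynomial.aeval t).toRingHom.toAlgebra
    have : IsScalarTower R (MvPolynomial (Fin k) R) S :=
      IsScalarTower.of_algebraMap_eq fun c => ((MvPolynomial.aeval t).commutes c).symm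
    have hX : ∀ i, algebraMap (MvPolynomial (Fin k) R) S (MvPolynomial.X i) = t i :=
      fun i => MvPolynomial.aeval_X t i
    have hqf : Algebra.QuasiFiniteAt (MvPolynomial (Fin k) R) q :=
      quasiFiniteAt_of_minimal q hrat (fun i => (hX i).symm ▸ htq i) hm (by simpa only [hX] using hmin)
    obtain ⟨B', _, _, _, _, _, r', _, hx', hm', hrat', L', _, _, _, _, _, _, hfin, hflat, hff⟩ :=
      exists_finite_split (R := R) (L := L) q hrat (fun i => (hX i).symm ▸ htq i) hm
    obtain ⟨f, a, hmonic, hf, hd, φ, hloc⟩ := exists_std_presentation B' r' hx' hm' hrat'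
    set D₀ := Localization.AtPrime r'
    letI : Algebra (QuotA f) D₀ := φ.toRingHom.toAlgebra
    have : IsScalarTower R (QuotA f) D₀ := IsScalarTower.of_algebraMap_eq fun c => (φ.commutes c).symm
    have : IsLocalization (ptSub f a) D₀ := hloc
    let M' := L' ⊗[L] M
    letI : Module D₀ M' := TensorProduct.leftModule
    have : IsScalarTower D₀ L' M' := TensorProduct.isScalarTower_left
    have : Module.Finite D₀ M' := Module.Finite.trans L' M'
    have : IsScalarTower R D₀ M' := IsScalarTower.of_algebraMap_smul fun c m => by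
      rw [← algebraMap_smul L' (algebraMap R D₀ c) m, ← IsScalarTower.algebraMap_apply, algebraMap_smul]
    have hflatM' : Module.Flat R M' := flat_tensor_of_flat L' M
    obtain ⟨R', _, _, dd, D, _, _, _, _, _, _, _, hDflat, hDloc, _, htrans⟩ :=
      exists_point_extension f a hmonic hf hd D₀
    let M'' := D ⊗[D₀] M'
    have : IsScalarTower R' D M'' := TensorProduct.isScalarTower_left
    have := htrans.1 M'
    have hflat'' : Module.Flat R' M'' := Module.Flat.of_linearEquiv (M := RestrictScalars R' D M'')
      ({ (RestrictScalars.addEquiv R' D M'').symm with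
          map_smul' := fun r x => by
            show (RestrictScalars.addEquiv R' D M'').symm (r • x) = r • _
            rw [← algebraMap_smul D r x]
            rfl } : M'' ≃ₗ[R'] RestrictScalars R' D M'')
    have hfp'' : Module.FinitePresentation D M'' := finitePresentation_point dd D M'' IH hk
    have hffD : Module.FaithfullyFlat D₀ D := Module.FaithfullyFlat.of_flat_of_isLocalHom
    have hfp' : Module.FinitePresentation D₀ M' := finitePresentation_of_faithfullyFlat D M'
    have : Module.FinitePresentation L' M' := finitePresentation_of_finite_algebra (A := D₀) M'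
    exact finitePresentation_of_faithfullyFlat L' M

end Groth.Agent.FlatCrit65
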