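import Groth.Agent.FlatCrit65.Point.Global

/-!
# Finite presentation of a flat algebra which is finitely presented over a dense open
-/

universe u

noncomputable section

open TensorProduct

namespace Groth.Agent.FlatCrit65

theorem finitePresentation_localized_of_algebra {A P B : Type u} [CommRing A] [CommRing P] [CommRing B]
    [Algebra A P] [Algebra A B] [Algebra P B] [IsScalarTower A P B] [Algebra.FinitePresentation A P]
    (hsurj : Function.Surjective (algebraMap P B)) (g : P) (B' : Type u) [CommRing B'] [Algebra B B']
    [IsLocalization.Away (algebraMap P B g) B']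
    (hfp : ((algebraMap B B').comp (algebraMap A B)).FinitePresentation) :
    Module.FinitePresentation (Localization (Submonoid.powers g))
      (LocalizedModule (Submonoid.powers g) B) := by
  let P' := Localization (Submonoid.powers g)
  let _ : Algebra P B' := ((algebraMap B B').comp (algebraMap P B)).toAlgebra
  have : IsScalarTower P B B' := IsScalarTower.of_algebraMap_eq fun _ => rfl
  have hunit : ∀ t : Submonoid.powers g, IsUnit (algebraMap P B' t) := by
    rintro ⟨_, n, rfl⟩
    show IsUnit (algebraMap B B' (algebraMap P B (g ^ n)))
    rw [map_pow, map_pow]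
    exact (IsLocalization.Away.algebraMap_isUnit (algebraMap P B g)).pow n
  let _ : Algebra P' B' := (IsLocalization.lift hunit).toAlgebra
  have : IsScalarTower P P' B' :=
    IsScalarTower.of_algebraMap_eq fun x => (IsLocalization.lift_eq hunit x).symm
  let _ : Algebra A B' := ((algebraMap B B').comp (algebraMap A B)).toAlgebra
  have : IsScalarTower A B B' := IsScalarTower.of_algebraMap_eq fun _ => rfl
  have : IsScalarTower A P B' := IsScalarTower.of_algebraMap_eq fun a => by
    rw [IsScalarTower.algebraMap_apply A B B', IsScalarTower.algebraMap_apply A P B,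
      IsScalarTower.algebraMap_apply P B B']
  have : IsScalarTower A P' B' := IsScalarTower.of_algebraMap_eq fun a => by
    rw [IsScalarTower.algebraMap_apply A P P', ← IsScalarTower.algebraMap_apply P P' B',
      ← IsScalarTower.algebraMap_apply A P B']
  have : Algebra.FinitePresentation A B' := hfp
  have : Algebra.FinitePresentation P P' := IsLocalization.Away.finitePresentation g
  have : Algebra.FinitePresentation A P' := Algebra.FinitePresentation.trans A P P'
  have hsurj' : Function.Surjective (algebraMap P' B') := by
    intro z
    obtain ⟨⟨b, t⟩, hz⟩ := IsLocalization.surj (Submonoid.powers (algebraMap P B g)) z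
    obtain ⟨_, n, rfl⟩ := t
    obtain ⟨p, rfl⟩ := hsurj b
    refine ⟨IsLocalization.mk' P' p (⟨g ^ n, n, rfl⟩ : Submonoid.powers g), ?_⟩
    show IsLocalization.lift hunit _ = z
    rw [IsLocalization.lift_mk'_spec]
    change _ = algebraMap B B' (algebraMap P B (g ^ n)) * z
    rw [map_pow, mul_comm]
    exact hz.symm
  have hker : (RingHom.ker (IsScalarTower.toAlgHom A P' B').toRingHom).FG :=
    Algebra.FinitePresentation.ker_fG_of_surjective _ hsurj'
  have : Module.FinitePresentation P' B' :=
    Module.finitePresentation_of_surjective (Algebra.linearMap P' B') hsurj' hker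
  have : IsLocalization (Algebra.algebraMapSubmonoid B (Submonoid.powers g)) B' := by
    have h : Algebra.algebraMapSubmonoid B (Submonoid.powers g) = Submonoid.powers (algebraMap P B g) :=
      Submonoid.map_powers _ g
    rw [h]
    infer_instance
  let e := (IsLocalizedModule.linearEquiv (Submonoid.powers g)
    (IsScalarTower.toAlgHom P B B').toLinearMap
    (LocalizedModule.mkLinearMap (Submonoid.powers g) B)).extendScalarsOfIsLocalization
      (Submonoid.powers g) P'
  exact Module.FinitePresentation.of_equiv e

/-- A flat finite type algebra which is finitely presented over a dense family of basic opens of the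
base is finitely presented. -/
theorem finitePresentation_algebra_of_dense {A B : Type u} [CommRing A] [CommRing B] [Algebra A B]
    [Algebra.FiniteType A B] [Module.Flat A B] {ι : Type} [Fintype ι] (f : ι → A)
    (hdense : ∀ c : A, (∀ i, ∃ m : ℕ, f i ^ m * c = 0) → c = 0)
    (B' : ι → Type u) [∀ i, CommRing (B' i)] [∀ i, Algebra B (B' i)]
    [∀ i, IsLocalization.Away (algebraMap A B (f i)) (B' i)]
    (hfp : ∀ i, ((algebraMap B (B' i)).comp (algebraMap A B)).FinitePresentation) :
    Algebra.FinitePresentation A B := by
  obtain ⟨n, φ, hφ⟩ := Algebra.FiniteType.iff_quotient_mvPolynomial''.mp (inferInstance : Algebra.FiniteType A B)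
  algebraize [φ.toRingHom]
  have : IsScalarTower A (MvPolynomial (Fin n) A) B :=
    IsScalarTower.of_algebraMap_eq fun r => (φ.commutes r).symm
  let P := MvPolynomial (Fin n) A
  let π : (Fin 1 → P) →ₗ[P] B := (Algebra.linearMap P B).comp (LinearMap.proj 0)
  have hπ : Function.Surjective π := fun b => by
    obtain ⟨p, rfl⟩ := hφ b
    exact ⟨fun _ => p, rfl⟩
  have : Module.Finite P B := Module.Finite.of_surjective (Algebra.linearMap P B) hφ
  have : Module.FinitePresentation P B := by
    refine finitePresentation_small (fun i => Submonoid.powers (f i)) (fun c hc => hdense c fun i => ?_) π hπ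
      fun i => ?_
    · obtain ⟨_, ⟨m, rfl⟩, hm⟩ := hc i
      exact ⟨m, hm⟩
    · have hmap : algebraMap P B (algebraMap A P (f i)) = algebraMap A B (f i) :=
        (IsScalarTower.algebraMap_apply A P B (f i)).symm
      have : IsLocalization.Away (algebraMap P B (algebraMap A P (f i))) (B' i) := by
        rw [hmap]; infer_instance
      have := finitePresentation_localized_of_algebra (A := A) (P := P) hφ (algebraMap A P (f i)) (B' i) (hfp i)
      obtain ⟨K, hK, hle, h⟩ := exists_fg_le_ker_at π hπ (Submonoid.powers (algebraMap A P (f i)))
      refine ⟨K, hK, hle, fun x hx => ?_⟩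
      obtain ⟨_, ⟨m, rfl⟩, hm⟩ := h x hx
      exact ⟨f i ^ m, ⟨m, rfl⟩, by rw [map_pow]; exact hm⟩
  exact Algebra.FinitePresentation.of_surjective hφ
    (Module.FinitePresentation.fg_ker (Algebra.linearMap P B) hφ)

end Groth.Agent.FlatCrit65
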