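import Groth.Agent.FlatCrit65.Point.Extend

/-!
# Auxiliary lemmas for the induction at a rational point
-/

universe u

noncomputable section

open TensorProduct

namespace Groth.Agent.FlatCrit65

/-- Finite presentation descends along faithfully flat ring maps. -/
theorem finitePresentation_of_faithfullyFlat {R : Type u} [CommRing R] (S : Type u) [CommRing S] [Algebra R S]
    [Module.FaithfullyFlat R S] (M : Type u) [AddCommGroup M] [Module R M]
    [Module.FinitePresentation S (S ⊗[R] M)] : Module.FinitePresentation R M := by
  have : Module.Finite R M := Module.Finite.of_finite_tensorProduct_of_faithfullyFlat S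
  obtain ⟨k, π, hπ⟩ := Module.Finite.exists_fin' R M
  let K := LinearMap.ker π
  let πS : S ⊗[R] (Fin k → R) →ₗ[S] S ⊗[R] M := π.baseChange S
  have hsurj : Function.Surjective πS := LinearMap.lTensor_surjective S hπ
  have hfg : (LinearMap.ker πS).FG := Module.FinitePresentation.fg_ker πS hsurj
  have hinj : Function.Injective (K.subtype.baseChange S) :=
    Module.Flat.lTensor_preserves_injective_linearMap (M := S) K.subtype Subtype.val_injective
  have hrange : LinearMap.range (K.subtype.baseChange S) = LinearMap.ker πS := by
    have hex : Function.Exact (K.subtype.lTensor S) (π.lTensor S) :=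
      lTensor_exact (R := R) (M := K) (N := Fin k → R) (P := M) S
        (LinearMap.exact_subtype_ker_map π) hπ
    ext x
    exact (hex x).symm
  have : Module.Finite S (S ⊗[R] K) := by
    have h1 : Module.Finite S (LinearMap.range (K.subtype.baseChange S)) := by
      rw [hrange]; exact Module.Finite.iff_fg.mpr hfg
    exact Module.Finite.equiv (LinearEquiv.ofInjective _ hinj).symm
  have : Module.Finite R K := Module.Finite.of_finite_tensorProduct_of_faithfullyFlat S
  exact Module.finitePresentation_of_surjective π hπ (Module.Finite.iff_fg.mp this)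

/-- A module over a module-finite algebra which is finitely presented over the base is finitely
presented over the algebra. -/
theorem finitePresentation_of_finite_algebra {A B : Type u} [CommRing A] [CommRing B] [Algebra A B]
    [Module.Finite A B] (M : Type u) [AddCommGroup M] [Module B M] [Module A M] [IsScalarTower A B M]
    [Module.FinitePresentation A M] : Module.FinitePresentation B M := by
  have : Module.Finite B M := Module.Finite.of_restrictScalars_finite A B M
  obtain ⟨k, π, hπ⟩ := Module.Finite.exists_fin' B M
  refine Module.finitePresentation_of_surjective π hπ ?_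
  have h : (LinearMap.ker (π.restrictScalars A)).FG :=
    Module.FinitePresentation.fg_ker (π.restrictScalars A) hπ
  rw [LinearMap.ker_restrictScalars] at h
  obtain ⟨s, hs⟩ := h
  refine ⟨s, le_antisymm (Submodule.span_le.mpr ?_) fun x hx => ?_⟩
  · intro x hx
    have : x ∈ Submodule.span A (s : Set (Fin k → B)) := Submodule.subset_span hx
    rw [hs] at this
    exact this
  · have : x ∈ Submodule.span A (s : Set (Fin k → B)) := by rw [hs]; exact hx
    exact Submodule.span_le_restrictScalars A B (s : Set (Fin k → B)) this

/-- A localization which is local is the localization at a prime. -/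
theorem exists_isLocalization_atPrime {A L : Type u} [CommRing A] [CommRing L] [IsLocalRing L] [Algebra A L]
    (W : Submonoid A) [IsLocalization W L] :
    ∃ (q : Ideal A) (_ : q.IsPrime), q = (IsLocalRing.maximalIdeal L).comap (algebraMap A L) ∧
      IsLocalization.AtPrime L q := by
  refine ⟨(IsLocalRing.maximalIdeal L).comap (algebraMap A L), inferInstance, rfl, ?_⟩
  have hu : ∀ x, x ∈ ((IsLocalRing.maximalIdeal L).comap (algebraMap A L)).primeCompl ↔
      IsUnit (algebraMap A L x) := fun x => by
    rw [Ideal.mem_primeCompl_iff, Ideal.mem_comap, IsLocalRing.mem_maximalIdeal, mem_nonunits_iff, not_not]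
  refine IsLocalization.of_le_of_exists_dvd W _ (fun x hx => (hu x).mpr (IsLocalization.map_units L ⟨x, hx⟩)) ?_
  intro x hx
  obtain ⟨z, hz⟩ := ((hu x).mp hx).exists_right_inv
  obtain ⟨a, ⟨s, hs⟩, rfl⟩ := IsLocalization.exists_mk'_eq W z
  have h : algebraMap A L (x * a) = algebraMap A L s := by
    rw [map_mul, ← IsLocalization.mk'_spec L a ⟨s, hs⟩, ← mul_assoc, hz, one_mul]
  obtain ⟨⟨c, hc⟩, hcz⟩ := IsLocalization.exists_of_eq (M := W) h
  refine ⟨c * s, W.mul_mem hc hs, c * a, ?_⟩
  simp only at hcz
  linear_combination -hcz

/-- The localization at a rational point has rational residue field. -/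
theorem surjective_comp_of_rational {R S L : Type u} [CommRing R] [IsLocalRing R] [CommRing S] [CommRing L] [IsLocalRing L]
    [Algebra R S] [Algebra R L] [Algebra S L] [IsScalarTower R S L] (q : Ideal S) [q.IsPrime]
    [IsLocalization.AtPrime L q] (hm : ∀ c ∈ IsLocalRing.maximalIdeal R, algebraMap R S c ∈ q)
    (hrat : ∀ s : S, ∃ c : R, s - algebraMap R S c ∈ q) (v : L) :
    ∃ c : R, v - algebraMap R L c ∈ IsLocalRing.maximalIdeal L := by
  have hmap : ∀ s ∈ q, algebraMap S L s ∈ IsLocalRing.maximalIdeal L := fun s hs => by
    rw [IsLocalRing.mem_maximalIdeal, mem_nonunits_iff, IsLocalization.AtPrime.isUnit_to_map_iff L q]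
    exact fun h => h hs
  obtain ⟨b, ⟨s, hs⟩, rfl⟩ := IsLocalization.exists_mk'_eq q.primeCompl v
  obtain ⟨cb, hcb⟩ := hrat b
  obtain ⟨cs, hcs⟩ := hrat s
  have hcs0 : IsUnit cs := by
    by_contra hn
    have h1 : algebraMap R L cs ∈ IsLocalRing.maximalIdeal L := by
      rw [IsScalarTower.algebraMap_apply R S L]
      exact hmap _ (hm _ hn)
    have h2 := hmap _ hcs
    rw [map_sub, ← IsScalarTower.algebraMap_apply R S L] at h2
    have h3 := add_mem h2 h1
    rw [sub_add_cancel] at h3
    exact (IsLocalRing.mem_maximalIdeal _).mp h3 (IsLocalization.map_units (M := q.primeCompl) L ⟨s, hs⟩)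
  obtain ⟨w, hw⟩ := hcs0.exists_left_inv
  refine ⟨w * cb, ?_⟩
  rw [← Ideal.unit_mul_mem_iff_mem _ (IsLocalization.map_units (M := q.primeCompl) L ⟨s, hs⟩),
    mul_sub, IsLocalization.mk'_spec', IsScalarTower.algebraMap_apply R S L, ← map_mul, ← map_sub]
  refine hmap _ ?_
  have h1 : b - s * algebraMap R S (w * cb) =
      (b - algebraMap R S cb) - (s - algebraMap R S cs) * algebraMap R S (w * cb) := by
    have : algebraMap R S cb = algebraMap R S cs * algebraMap R S (w * cb) := by
      rw [← map_mul]; congr 1; linear_combination (-cb) * hw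
    linear_combination this
  rw [h1]
  exact sub_mem hcb (Ideal.mul_mem_right _ _ hcs)

end Groth.Agent.FlatCrit65
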