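import Groth.Agent.FlatCrit65.Point.Global

/-!
# Raynaud–Gruson over a domain
-/

universe u

noncomputable section

open TensorProduct

namespace Groth.Agent.FlatCrit65

theorem isNoetherianRing_localization_of_field {R A : Type u} [CommRing R] [IsDomain R] [CommRing A]
    [Algebra R A] [Algebra.FiniteType R A] :
    IsNoetherianRing (Localization (Algebra.algebraMapSubmonoid A (nonZeroDivisors R))) := by
  let W := Algebra.algebraMapSubmonoid A (nonZeroDivisors R)
  letI : Algebra A (FractionRing R ⊗[R] A) := Algebra.TensorProduct.rightAlgebra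
  have : Algebra.IsPushout R A (FractionRing R) (FractionRing R ⊗[R] A) :=
    (inferInstance : Algebra.IsPushout R (FractionRing R) A (FractionRing R ⊗[R] A)).symm
  have : IsLocalization W (FractionRing R ⊗[R] A) :=
    (Algebra.isLocalization_iff_isPushout (nonZeroDivisors R) (FractionRing R)).mpr inferInstance
  have : IsNoetherianRing (FractionRing R ⊗[R] A) :=
    Algebra.FiniteType.isNoetherianRing (FractionRing R) _
  exact isNoetherianRing_of_ringEquiv _
    (IsLocalization.algEquiv W (FractionRing R ⊗[R] A) (Localization W)).toRingEquiv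

variable {R A N : Type u} [CommRing R] [IsDomain R] [CommRing A] [Algebra R A]
  [Algebra.FinitePresentation R A] [AddCommGroup N] [Module A N] [Module R N] [IsScalarTower R A N]
  [Module.Finite A N]

theorem exists_domain_generators {k : ℕ} (π : (Fin k → A) →ₗ[A] N) (hπ : Function.Surjective π) :
    ∃ K : Submodule A (Fin k → A), K.FG ∧ K ≤ LinearMap.ker π ∧
      ∀ x ∈ LinearMap.ker π, ∃ r ∈ nonZeroDivisors R, algebraMap R A r • x ∈ K := by
  have := isNoetherianRing_localization_of_field (R := R) (A := A)
  let W := Algebra.algebraMapSubmonoid A (nonZeroDivisors R)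
  have : Module.Finite (Localization W) (LocalizedModule W N) :=
    Module.Finite.of_isLocalizedModule W (LocalizedModule.mkLinearMap W N)
  have : Module.FinitePresentation (Localization W) (LocalizedModule W N) :=
    Module.finitePresentation_of_finite _ _
  obtain ⟨K, hK, hle, h⟩ := exists_fg_le_ker_at π hπ W
  refine ⟨K, hK, hle, fun x hx => ?_⟩
  obtain ⟨_, ⟨r, hr, rfl⟩, hs⟩ := h x hx
  exact ⟨r, hr, hs⟩

theorem domain_annihilator (c : R)
    (h : ∀ _ : PUnit.{1}, ∃ r ∈ nonZeroDivisors R, r * c = 0) : c = 0 := by
  obtain ⟨r, hr, hrc⟩ := h PUnit.unit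
  exact (mem_nonZeroDivisors_iff.mp hr).1 c hrc

variable (R A N) in
theorem isOpen_flat_locus_domain :
    IsOpen {q : PrimeSpectrum A | Module.Flat R (LocalizedModule q.asIdeal.primeCompl N)} := by
  obtain ⟨k, π, hπ⟩ := Module.Finite.exists_fin' A N
  exact isOpen_flat_locus_small (fun _ : PUnit.{1} => nonZeroDivisors R) domain_annihilator π hπ
    (fun _ => exists_domain_generators π hπ)

variable (R A N) in
theorem finitePresentation_domain [Module.Flat R N] : Module.FinitePresentation A N := by
  obtain ⟨k, π, hπ⟩ := Module.Finite.exists_fin' A N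
  exact finitePresentation_small (fun _ : PUnit.{1} => nonZeroDivisors R) domain_annihilator π hπ
    (fun _ => exists_domain_generators π hπ)

end Groth.Agent.FlatCrit65
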