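import Mathlib.RingTheory.Flat.Tensor
import Mathlib.RingTheory.IsTensorProduct
import Mathlib.RingTheory.LocalRing.MaximalIdeal.Basic

/-!
# Injectivity on modules killed by the maximal ideal
-/

universe u

noncomputable section

open TensorProduct

namespace Groth.Agent.FlatCrit65

/-- Tensoring with `M` keeps inclusions of modules killed by the maximal ideal injective. -/
def GrInj (R M : Type u) [CommRing R] [IsLocalRing R] [AddCommGroup M] [Module R M] : Prop :=
  ∀ (X : Type u) [AddCommGroup X] [Module R X] (V : Submodule R X),
    (∀ a ∈ IsLocalRing.maximalIdeal R, ∀ v ∈ V, a • v = 0) → Function.Injective (V.subtype.lTensor M)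

variable {R : Type u} [CommRing R] [IsLocalRing R]

theorem grInj_of_flat {M : Type u} [AddCommGroup M] [Module R M] [Module.Flat R M] : GrInj R M :=
  fun _ _ _ V _ => Module.Flat.lTensor_preserves_injective_linearMap _ V.injective_subtype

theorem grInj_of_linearEquiv {M M' : Type u} [AddCommGroup M] [Module R M] [AddCommGroup M'] [Module R M']
    (e : M ≃ₗ[R] M') (h : GrInj R M) : GrInj R M' := by
  intro X _ _ V hV
  have hnat : ∀ z, V.subtype.lTensor M (e.symm.toLinearMap.rTensor V z) =
      e.symm.toLinearMap.rTensor X (V.subtype.lTensor M' z) := fun z => by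
    rw [← LinearMap.comp_apply, ← LinearMap.comp_apply, LinearMap.lTensor_comp_rTensor,
      LinearMap.rTensor_comp_lTensor]
  intro a b hab
  have hl : ∀ z, e.toLinearMap.rTensor V (e.symm.toLinearMap.rTensor V z) = z := fun z => by
    rw [← LinearMap.comp_apply, ← LinearMap.rTensor_comp, LinearEquiv.comp_symm, LinearMap.rTensor_id,
      LinearMap.id_apply]
  have h1 := h X V hV ((hnat a).trans ((congrArg _ hab).trans (hnat b).symm))
  rw [← hl a, ← hl b, h1]

/-- Tensoring with a flat module over an algebra. -/
theorem grInj_tensor {T : Type u} [CommRing T] [Algebra R T] (L : Type u)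
    [AddCommGroup L] [Module T L] [Module R L] [IsScalarTower R T L] [Module.Flat T L]
    (N : Type u) [AddCommGroup N] [Module T N] [Module R N] [IsScalarTower R T N] (hN : GrInj R N) :
    GrInj R (L ⊗[T] N) := by
  intro X _ _ V hV
  have hnat : ∀ z : (L ⊗[T] N) ⊗[R] V,
      AlgebraTensorModule.assoc R T T L N X (V.subtype.lTensor (L ⊗[T] N) z) =
        (AlgebraTensorModule.lTensor T N V.subtype).lTensor L (AlgebraTensorModule.assoc R T T L N V z) := by
    intro z
    induction z using TensorProduct.induction_on with
    | zero => simp
    | tmul x c =>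
      induction x using TensorProduct.induction_on with
      | zero => simp
      | tmul a b => simp
      | add x y hx hy => simp only [TensorProduct.add_tmul, map_add, hx, hy]
    | add x y hx hy => simp only [map_add, hx, hy]
  intro z w hzw
  have h := congrArg (AlgebraTensorModule.assoc R T T L N X) hzw
  rw [hnat, hnat] at h
  have hinj : Function.Injective (AlgebraTensorModule.lTensor T N V.subtype) := hN X V hV
  have h' := Module.Flat.lTensor_preserves_injective_linearMap (M := L) (AlgebraTensorModule.lTensor T N V.subtype) hinj
  exact (AlgebraTensorModule.assoc R T T L N V).injective (h' h)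

/-- Base change along a local homomorphism. -/
theorem grInj_baseChange {R' : Type u} [CommRing R'] [IsLocalRing R'] [Algebra R R']
    [IsLocalHom (algebraMap R R')] {M : Type u} [AddCommGroup M] [Module R M] (hM : GrInj R M) :
    GrInj R' (R' ⊗[R] M) := by
  intro X _ _ V hV
  let _ : Module R X := Module.compHom X (algebraMap R R')
  have : IsScalarTower R R' X := IsScalarTower.of_algebraMap_smul fun _ _ => rfl
  have h := hM X (V.restrictScalars R) fun a ha v hv => by
    rw [← algebraMap_smul R' a v]
    exact hV _ ((IsLocalRing.mem_maximalIdeal _).mpr fun hu =>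
      (IsLocalRing.mem_maximalIdeal _).mp ha (IsLocalHom.map_nonunit a hu)) v hv
  let G : ∀ (Y : Type u) [AddCommGroup Y] [Module R' Y] [Module R Y] [IsScalarTower R R' Y],
      (R' ⊗[R] M) ⊗[R'] Y ≃+ M ⊗[R] Y := fun Y _ _ _ _ =>
    ((TensorProduct.comm R' (R' ⊗[R] M) Y).toAddEquiv.trans
      (AlgebraTensorModule.cancelBaseChange R R' R' Y M).toAddEquiv).trans (TensorProduct.comm R Y M).toAddEquiv
  let GV : (R' ⊗[R] M) ⊗[R'] V ≃+ M ⊗[R] (V.restrictScalars R) := G (V.restrictScalars R)
  have hnat : ∀ z, G X (V.subtype.lTensor _ z) = (V.restrictScalars R).subtype.lTensor M (GV z) := by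
    intro z
    induction z using TensorProduct.induction_on with
    | zero => simp only [map_zero]
    | tmul x v =>
      induction x using TensorProduct.induction_on with
      | zero => simp only [zero_tmul, map_zero]
      | tmul r m => rfl
      | add a b ha hb => simp only [add_tmul, map_add, ha, hb]
    | add a b ha hb => simp only [map_add, ha, hb]
  intro a b hab
  apply GV.injective
  apply h
  rw [← hnat, ← hnat, hab]

end Groth.Agent.FlatCrit65
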