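import Groth.Agent.FlatCrit65.Point.Ring

/-!
# Standard étale presentations of the local ring at a rational point
-/

universe u

noncomputable section

open Polynomial TensorProduct

namespace Groth.Agent.FlatCrit65

abbrev QuotA {R : Type u} [CommRing R] {n : ℕ} (f : PolyA R n) : Type u := AdjoinRoot f

/-- The images of the elements invertible at the section. -/
def ptSub {R : Type u} [CommRing R] {n : ℕ} (f : PolyA R n) (a : R) : Submonoid (QuotA f) :=
  ((IsUnit.submonoid R).comap (secHom (n := n) a)).map (AdjoinRoot.mk f)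

theorem mem_ptSub {R : Type u} [CommRing R] {n : ℕ} {f : PolyA R n} {a : R} {x : QuotA f} :
    x ∈ ptSub f a ↔ ∃ s, IsUnit (secHom a s) ∧ AdjoinRoot.mk f s = x := Iff.rfl

theorem ptSub_mk_mem {R : Type u} [CommRing R] {n : ℕ} {f : PolyA R n} {a : R} {s : PolyA R n}
    (hs : IsUnit (secHom a s)) : AdjoinRoot.mk f s ∈ ptSub f a := ⟨s, hs, rfl⟩

theorem secHom_C_X {R : Type u} [CommRing R] {n : ℕ} (a : R) (i : Fin n) :
    secHom a (Polynomial.C (MvPolynomial.X i) : PolyA R n) = 0 := by simp [secHom]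

theorem isLocalRing_of_ptSub {R : Type u} [CommRing R] [IsLocalRing R] {n : ℕ} {f : PolyA R n} {a : R}
    (hf : secHom a f ∈ IsLocalRing.maximalIdeal R) (D : Type u) [CommRing D] [Algebra (QuotA f) D]
    [IsLocalization (ptSub f a) D] : IsLocalRing D := by
  have hker : ∀ s p, AdjoinRoot.mk f s = AdjoinRoot.mk f p →
      secHom a s - secHom a p ∈ IsLocalRing.maximalIdeal R := by
    intro s p hsp
    obtain ⟨r, hr⟩ := AdjoinRoot.mk_eq_mk.mp hsp
    rw [← map_sub, hr, map_mul]
    exact Ideal.mul_mem_right _ _ hf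
  have : Nontrivial D := by
    rw [← not_subsingleton_iff_nontrivial, IsLocalization.subsingleton_iff (S := D) (M := ptSub f a)]
    rintro ⟨s, hs, hs0⟩
    have h := hker s 0 (by rw [hs0, map_zero])
    rw [map_zero, sub_zero] at h
    exact (IsLocalRing.mem_maximalIdeal _).mp h hs
  refine IsLocalRing.of_isUnit_or_isUnit_one_sub_self fun v => ?_
  obtain ⟨x, ⟨_, s, hs, rfl⟩, rfl⟩ := IsLocalization.exists_mk'_eq (ptSub f a) v
  obtain ⟨p, rfl⟩ := AdjoinRoot.mk_surjective x
  have key : ∀ q : PolyA R n, IsUnit (secHom a q) →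
      IsUnit (IsLocalization.mk' D (AdjoinRoot.mk f q)
        (⟨_, s, hs, rfl⟩ : ptSub f a)) := fun q hq => by
    rw [IsLocalization.mk'_eq_mul_mk'_one]
    exact (IsLocalization.map_units D (⟨_, ptSub_mk_mem hq⟩ : ptSub f a)).mul
      (IsUnit.of_mul_eq_one_right _ (IsLocalization.mk'_spec'_mk D _ _ _ |>.trans (map_one _)))
  by_cases hp : IsUnit (secHom a p)
  · exact Or.inl (key p hp)
  · refine Or.inr ?_
    have hu : IsUnit (secHom a (s - p)) := by
      rw [map_sub]
      by_contra hc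
      have h1 := (IsLocalRing.mem_maximalIdeal _).mpr hc
      have h2 := (IsLocalRing.mem_maximalIdeal _).mpr hp
      have h3 := add_mem h1 h2
      rw [sub_add_cancel] at h3
      exact (IsLocalRing.mem_maximalIdeal _).mp h3 hs
    convert key _ hu using 1
    refine (IsLocalization.map_units D (⟨_, s, hs, rfl⟩ : ptSub f a)).mul_left_cancel ?_
    rw [mul_sub, mul_one, IsLocalization.mk'_spec', IsLocalization.mk'_spec', map_sub, map_sub]

/-- The local ring of an étale algebra over a polynomial ring at a rational point over the origin. -/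
theorem exists_std_presentation {R : Type u} [CommRing R] [IsLocalRing R] {n : ℕ} (B' : Type u)
    [CommRing B'] [Algebra (MvPolynomial (Fin n) R) B'] [Algebra R B']
    [IsScalarTower R (MvPolynomial (Fin n) R) B'] [Algebra.Etale (MvPolynomial (Fin n) R) B']
    (r' : Ideal B') [r'.IsPrime]
    (hx : ∀ i, algebraMap (MvPolynomial (Fin n) R) B' (MvPolynomial.X i) ∈ r')
    (hm : ∀ c ∈ IsLocalRing.maximalIdeal R, algebraMap R B' c ∈ r')
    (hrat : ∀ b : B', ∃ c : R, b - algebraMap R B' c ∈ r') :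
    ∃ (f : PolyA R n) (a : R), f.Monic ∧ secHom a f ∈ IsLocalRing.maximalIdeal R ∧
      IsUnit (secHom a (derivative f)) ∧
      ∃ φ : QuotA f →ₐ[R] Localization.AtPrime r',
        letI := φ.toRingHom.toAlgebra
        IsLocalization (ptSub f a) (Localization.AtPrime r') := by
  set B := MvPolynomial (Fin n) R
  have : Algebra.IsEtaleAt B r' := inferInstance
  obtain ⟨g, hg, hstd⟩ := Algebra.IsEtaleAt.exists_isStandardEtale (R := B) r'
  obtain ⟨P, x₀, hx₀, hbij⟩ := hstd.nonempty_standardEtalePresentation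
  let e : P.Ring ≃ₐ[B] Localization.Away g := AlgEquiv.ofBijective (P.lift x₀ hx₀) hbij
  let ι : Localization.Away g →ₐ[B] Localization.AtPrime r' :=
    IsLocalization.Away.liftAlgHom g (f := IsScalarTower.toAlgHom B B' (Localization.AtPrime r'))
      (IsLocalization.map_units (M := r'.primeCompl) _ ⟨g, hg⟩)
  let D₀ := Localization.AtPrime r'
  obtain ⟨y, hy⟩ : ∃ y : D₀, y = ι x₀ := ⟨_, rfl⟩
  have hratD : ∀ v : D₀, ∃ c : R, v - algebraMap R D₀ c ∈ IsLocalRing.maximalIdeal D₀ := by
    intro v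
    obtain ⟨b, ⟨s, hs⟩, rfl⟩ := IsLocalization.exists_mk'_eq r'.primeCompl v
    obtain ⟨c, hc⟩ := hrat b
    obtain ⟨c', hc'⟩ := hrat s
    have hc'u : IsUnit c' := by
      by_contra hn
      exact hs (by simpa using r'.add_mem hc' (hm c' ((IsLocalRing.mem_maximalIdeal _).mpr hn)))
    obtain ⟨w, hw⟩ := hc'u.exists_left_inv
    refine ⟨w * c, ?_⟩
    rw [← Ideal.unit_mul_mem_iff_mem _
      (IsLocalization.map_units (M := r'.primeCompl) D₀ ⟨s, hs⟩), mul_sub, IsLocalization.mk'_spec'_mk,
      IsScalarTower.algebraMap_apply R B' D₀, ← map_mul, ← map_sub]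
    rw [← Localization.AtPrime.map_eq_maximalIdeal]
    refine Ideal.mem_map_of_mem _ ?_
    have h1 : b - s * algebraMap R B' (w * c) =
        (b - algebraMap R B' c) - (s - algebraMap R B' c') * algebraMap R B' (w * c) := by
      have : algebraMap R B' c = algebraMap R B' c' * algebraMap R B' (w * c) := by
        rw [← map_mul]; congr 1; linear_combination (-c) * hw
      linear_combination this
    rw [h1]
    exact sub_mem hc (Ideal.mul_mem_right _ _ hc')
  obtain ⟨a, ha⟩ := hratD y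
  have hev : ∀ p : PolyA R n, Polynomial.aeval y p - algebraMap R D₀ (secHom a p) ∈
      IsLocalRing.maximalIdeal D₀ := by
    have heq : (IsLocalRing.residue D₀).comp (Polynomial.aeval y).toRingHom =
        (IsLocalRing.residue D₀).comp ((algebraMap R D₀).comp (secHom (n := n) a)) := by
      refine Polynomial.ringHom_ext' (MvPolynomial.ringHom_ext (fun c => ?_) (fun i => ?_)) ?_
      · simp only [RingHom.comp_apply, AlgHom.toRingHom_eq_coe, AlgHom.coe_toRingHom, aeval_C, secHom,
          coe_eval₂RingHom, eval₂_C, MvPolynomial.constantCoeff_C]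
        rw [← MvPolynomial.algebraMap_eq, ← IsScalarTower.algebraMap_apply]
      · simp only [RingHom.comp_apply, AlgHom.toRingHom_eq_coe, AlgHom.coe_toRingHom, aeval_C,
          secHom_C_X, map_zero, IsLocalRing.residue_eq_zero_iff]
        rw [IsScalarTower.algebraMap_apply B B' D₀, ← Localization.AtPrime.map_eq_maximalIdeal]
        exact Ideal.mem_map_of_mem _ (hx i)
      · simp only [RingHom.comp_apply, AlgHom.toRingHom_eq_coe, AlgHom.coe_toRingHom, aeval_X,
          secHom, coe_eval₂RingHom, eval₂_X]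
        exact Ideal.Quotient.eq.mpr ha
    intro p
    exact Ideal.Quotient.eq.mp (RingHom.congr_fun heq p)
  have hmapm : ∀ c : R, algebraMap R D₀ c ∈ IsLocalRing.maximalIdeal D₀ ↔ c ∈ IsLocalRing.maximalIdeal R := by
    intro c
    refine ⟨fun h => ?_, fun h => ?_⟩
    · rw [IsLocalRing.mem_maximalIdeal] at h ⊢
      exact fun hu => h (hu.map _)
    · rw [IsScalarTower.algebraMap_apply R B' D₀, ← Localization.AtPrime.map_eq_maximalIdeal]
      exact Ideal.mem_map_of_mem _ (hm c h)
  have hunit : ∀ p : PolyA R n, IsUnit (Polynomial.aeval y p) ↔ IsUnit (secHom a p) := by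
    intro p
    rw [← not_iff_not, ← mem_nonunits_iff, ← mem_nonunits_iff, ← IsLocalRing.mem_maximalIdeal,
      ← IsLocalRing.mem_maximalIdeal, ← hmapm]
    constructor
    · intro h; simpa using sub_mem h (hev p)
    · intro h; simpa using add_mem h (hev p)
  have hroot : Polynomial.aeval y P.f = 0 := by
    rw [hy, Polynomial.aeval_algHom_apply, hx₀.1, map_zero]
  refine ⟨P.f, a, P.monic_f, ?_, ?_, ?_⟩
  · by_contra hc
    rw [IsLocalRing.mem_maximalIdeal, mem_nonunits_iff, not_not, ← hunit, hroot] at hc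
    exact not_isUnit_zero hc
  · rw [← hunit, hy, Polynomial.aeval_algHom_apply]
    exact hx₀.isUnit_derivative_f.map _
  let φ : QuotA P.f →ₐ[R] D₀ := (AdjoinRoot.liftAlgHom P.f (Algebra.ofId B D₀) y (by
    simpa [Polynomial.aeval_def] using hroot)).restrictScalars R
  refine ⟨φ, ?_⟩
  letI := φ.toRingHom.toAlgebra
  have hπ : ∀ p, algebraMap (QuotA P.f) D₀ (AdjoinRoot.mk P.f p) = Polynomial.aeval y p := fun p => by
    show φ (AdjoinRoot.mk P.f p) = _
    simp [φ, AdjoinRoot.liftAlgHom, Polynomial.aeval_def]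
  have hgu : IsUnit (secHom a P.g) := by
    rw [← hunit, hy, Polynomial.aeval_algHom_apply]
    exact hx₀.2.map _
  let Φ : AdjoinRoot P.f →ₐ[B] Localization.Away g :=
    (e.toAlgHom.comp P.equivAwayAdjoinRoot.symm.toAlgHom).comp
      (IsScalarTower.toAlgHom B (AdjoinRoot P.f) _)
  have hΦ : ∀ q : PolyA R n, Φ (AdjoinRoot.mk P.f q) = Polynomial.aeval x₀ q := by
    intro q
    rw [← AdjoinRoot.aeval_eq, ← Polynomial.aeval_algHom_apply]
    congr 2
    simp [Φ, StandardEtalePair.equivAwayAdjoinRoot, e, AdjoinRoot.liftAlgHom]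
  have hform : ∀ z : Localization.Away g, ∃ (k : ℕ) (p : PolyA R n),
      Polynomial.aeval x₀ P.g ^ k * z = Polynomial.aeval x₀ p := by
    intro z
    obtain ⟨v, hv⟩ := P.equivAwayAdjoinRoot.symm.surjective (e.symm z)
    obtain ⟨w, ⟨_, k, rfl⟩, rfl⟩ := IsLocalization.exists_mk'_eq
      (Submonoid.powers (AdjoinRoot.mk P.f P.g)) v
    obtain ⟨p, rfl⟩ := AdjoinRoot.mk_surjective w
    refine ⟨k, p, ?_⟩
    have hz : z = e (P.equivAwayAdjoinRoot.symm (IsLocalization.mk' (Localization.Away (AdjoinRoot.mk P.f P.g))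
        (AdjoinRoot.mk P.f p) (⟨AdjoinRoot.mk P.f P.g ^ k, k, rfl⟩ : Submonoid.powers (AdjoinRoot.mk P.f P.g)))) := by
      rw [hv, AlgEquiv.apply_symm_apply]
    rw [← hΦ, ← hΦ, ← map_pow, hz]
    show e (P.equivAwayAdjoinRoot.symm (algebraMap _ _ (AdjoinRoot.mk P.f P.g ^ k))) *
      e (P.equivAwayAdjoinRoot.symm _) = e (P.equivAwayAdjoinRoot.symm (algebraMap _ _ _))
    rw [← map_mul, ← map_mul]
    congr 2
    exact IsLocalization.mk'_spec' _ _ (⟨AdjoinRoot.mk P.f P.g ^ k, k, rfl⟩ : Submonoid.powers (AdjoinRoot.mk P.f P.g))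
  have hker : ∀ p, Polynomial.aeval x₀ p = 0 → ∃ k, AdjoinRoot.mk P.f (P.g ^ k * p) = 0 := by
    intro p hp
    rw [← hΦ] at hp
    have h2 : algebraMap (AdjoinRoot P.f) (Localization.Away (AdjoinRoot.mk P.f P.g))
        (AdjoinRoot.mk P.f p) = 0 := by
      apply P.equivAwayAdjoinRoot.symm.injective
      apply e.injective
      rw [map_zero, map_zero]
      exact hp
    obtain ⟨⟨_, k, rfl⟩, hk⟩ := (IsLocalization.map_eq_zero_iff (Submonoid.powers (AdjoinRoot.mk P.f P.g)) _ _).mp h2
    exact ⟨k, by rw [map_mul, map_pow]; exact hk⟩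
  have hι : ∀ b : B', ι (algebraMap B' (Localization.Away g) b) = algebraMap B' D₀ b := by
    intro b
    exact IsLocalization.Away.lift_eq g (IsLocalization.map_units (M := r'.primeCompl) (Localization.AtPrime r') ⟨g, hg⟩) b
  rw [isLocalization_iff]
  refine ⟨?_, ?_, ?_⟩
  · rintro ⟨_, s, hs, rfl⟩
    rw [hπ]
    exact (hunit s).mpr hs
  · intro z
    obtain ⟨b, ⟨s, hs⟩, rfl⟩ := IsLocalization.exists_mk'_eq r'.primeCompl z
    obtain ⟨k, p, hp⟩ := hform (algebraMap B' _ b)
    obtain ⟨l, q, hq⟩ := hform (algebraMap B' _ s)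
    have hp' : Polynomial.aeval y P.g ^ k * algebraMap B' D₀ b = Polynomial.aeval y p := by
      rw [hy, Polynomial.aeval_algHom_apply, Polynomial.aeval_algHom_apply, ← hι, ← map_pow, ← map_mul, hp]
    have hq' : Polynomial.aeval y P.g ^ l * algebraMap B' D₀ s = Polynomial.aeval y q := by
      rw [hy, Polynomial.aeval_algHom_apply, Polynomial.aeval_algHom_apply, ← hι, ← map_pow, ← map_mul, hq]
    have hqu : IsUnit (secHom a (P.g ^ k * q)) := by
      rw [← hunit, map_mul, map_pow, ← hq']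
      exact (((hunit _).mpr hgu).pow k).mul ((((hunit _).mpr hgu).pow l).mul
        (IsLocalization.map_units (M := r'.primeCompl) D₀ ⟨s, hs⟩))
    refine ⟨(AdjoinRoot.mk P.f (P.g ^ l * p), ⟨_, ptSub_mk_mem hqu⟩), ?_⟩
    show IsLocalization.mk' D₀ b (⟨s, hs⟩ : r'.primeCompl) * algebraMap (QuotA P.f) D₀
      (AdjoinRoot.mk P.f (P.g ^ k * q)) = algebraMap (QuotA P.f) D₀ (AdjoinRoot.mk P.f (P.g ^ l * p))
    rw [hπ, hπ, map_mul, map_mul, map_pow, map_pow, ← hp', ← hq']
    rw [show IsLocalization.mk' D₀ b (⟨s, hs⟩ : r'.primeCompl) * (Polynomial.aeval y P.g ^ k *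
      (Polynomial.aeval y P.g ^ l * algebraMap B' D₀ s)) = Polynomial.aeval y P.g ^ k *
      Polynomial.aeval y P.g ^ l * (IsLocalization.mk' D₀ b (⟨s, hs⟩ : r'.primeCompl) *
        algebraMap B' D₀ s) by ring, IsLocalization.mk'_spec_mk]
    ring
  · intro v w h
    obtain ⟨p, rfl⟩ := AdjoinRoot.mk_surjective v
    obtain ⟨q, rfl⟩ := AdjoinRoot.mk_surjective w
    rw [hπ, hπ, ← sub_eq_zero, ← map_sub, hy, Polynomial.aeval_algHom_apply] at h
    obtain ⟨b, ⟨_, j, rfl⟩, hb⟩ := IsLocalization.exists_mk'_eq (Submonoid.powers g)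
      (Polynomial.aeval x₀ (p - q))
    have hb' : algebraMap B' (Localization.Away g) (g ^ j) * Polynomial.aeval x₀ (p - q) =
        algebraMap B' (Localization.Away g) b := by
      rw [← hb]
      exact IsLocalization.mk'_spec' _ _ (⟨g ^ j, j, rfl⟩ : Submonoid.powers g)
    have h0 : algebraMap B' D₀ b = 0 := by
      rw [← hι, ← hb', map_mul, h, mul_zero]
    obtain ⟨⟨s, hs⟩, hsb⟩ := (IsLocalization.map_eq_zero_iff r'.primeCompl D₀ _).mp h0
    obtain ⟨l, u, hu⟩ := hform (algebraMap B' _ s)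
    have huu : IsUnit (secHom a u) := by
      rw [← hunit, hy, Polynomial.aeval_algHom_apply, ← hu, map_mul, map_pow, hι]
      exact (((hx₀.2).map ι).pow l).mul (IsLocalization.map_units (M := r'.primeCompl) D₀ ⟨s, hs⟩)
    have hzero : Polynomial.aeval x₀ (u * (p - q)) = 0 := by
      refine (IsLocalization.map_units (Localization.Away g) (⟨_, j, rfl⟩ : Submonoid.powers g)).mul_right_eq_zero.mp ?_
      rw [map_mul, ← hu]
      calc _ = Polynomial.aeval x₀ P.g ^ l * (algebraMap B' (Localization.Away g) s *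
            (algebraMap B' (Localization.Away g) (g ^ j) * Polynomial.aeval x₀ (p - q))) := by
            simp only [map_pow]; ring
        _ = 0 := by rw [hb', ← map_mul, hsb, map_zero, mul_zero]
    obtain ⟨k, hk⟩ := hker _ hzero
    have hgu' : IsUnit (secHom a (P.g ^ k * u)) := by rw [map_mul, map_pow]; exact (hgu.pow k).mul huu
    refine ⟨⟨_, ptSub_mk_mem hgu'⟩, ?_⟩
    rw [← sub_eq_zero, ← hk]
    simp only [map_mul, map_sub]
    ring

end Groth.Agent.FlatCrit65
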