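import Groth.Agent.FlatCrit65.Assassin.Extension
import Groth.Agent.FlatCrit65.Point.Std
import Groth.Agent.FlatCrit65.Point.GrInj

/-!
# Adjoining a section

A flat local extension `R → R'` with trivial residue extension over which the simple root lifts.
-/

universe u

noncomputable section

open Polynomial TensorProduct

namespace Groth.Agent.FlatCrit65

theorem secHom_mapPolyA {R R' : Type u} [CommRing R] [CommRing R'] {n : ℕ} (g : R →+* R') (y : R')
    (p : PolyA R n) :
    secHom y (mapPolyA n g p) = (p.map MvPolynomial.constantCoeff).eval₂ g y := by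
  show (p.map (MvPolynomial.map g)).eval₂ MvPolynomial.constantCoeff y = _
  rw [Polynomial.eval₂_map, Polynomial.eval₂_map, MvPolynomial.constantCoeff_comp_map]

theorem exists_section_extension {R : Type u} [CommRing R] [IsLocalRing R] {n : ℕ} (f : PolyA R n)
    (a : R) (hmonic : f.Monic) (hf : secHom a f ∈ IsLocalRing.maximalIdeal R)
    (hd : IsUnit (secHom a (derivative f))) :
    ∃ (R' : Type u) (_ : CommRing R') (_ : IsLocalRing R') (_ : Algebra R R'),
      Module.Flat R R' ∧ IsLocalHom (algebraMap R R') ∧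
      (IsLocalRing.maximalIdeal R' ≤ (IsLocalRing.maximalIdeal R).map (algebraMap R R') ∧ TorsionExt R R') ∧
      ∃ d : PtData R' n, d.f = mapPolyA n (algebraMap R R') f ∧
        d.a - algebraMap R R' a ∈ IsLocalRing.maximalIdeal R' := by
  set f₀ : R[X] := f.map MvPolynomial.constantCoeff
  have hf₀ : f₀.Monic := hmonic.map _
  have hev : ∀ p : PolyA R n, (p.map MvPolynomial.constantCoeff).eval a = secHom a p := fun p => by
    rw [Polynomial.eval_map]; rfl
  let ε : AdjoinRoot f₀ →+* IsLocalRing.ResidueField R :=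
    AdjoinRoot.lift (IsLocalRing.residue R) (IsLocalRing.residue R a) (by
      rw [Polynomial.eval₂_at_apply, hev, IsLocalRing.residue_eq_zero_iff]
      exact hf)
  let Q : Ideal (AdjoinRoot f₀) := RingHom.ker ε
  have hQ : Q.IsPrime := RingHom.ker_isPrime ε
  set R' := Localization.AtPrime Q
  let y : R' := algebraMap (AdjoinRoot f₀) R' (AdjoinRoot.root f₀)
  have : Module.Free R (AdjoinRoot f₀) := hf₀.free_adjoinRoot
  have : Module.Flat R R' := Module.Flat.trans R (AdjoinRoot f₀) R'
  have hmem : ∀ x, algebraMap (AdjoinRoot f₀) R' x ∈ IsLocalRing.maximalIdeal R' ↔ ε x = 0 := by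
    intro x
    rw [IsLocalRing.mem_maximalIdeal, mem_nonunits_iff,
      IsLocalization.AtPrime.isUnit_to_map_iff R' Q, Ideal.mem_primeCompl_iff, not_not]
    rfl
  have hloc : IsLocalHom (algebraMap R R') := ⟨fun c hc => by
    by_contra hn
    rw [IsScalarTower.algebraMap_apply R (AdjoinRoot f₀) R',
      IsLocalization.AtPrime.isUnit_to_map_iff R' Q] at hc
    refine hc ?_
    show ε (algebraMap R (AdjoinRoot f₀) c) = 0
    rw [AdjoinRoot.algebraMap_eq, AdjoinRoot.lift_of, IsLocalRing.residue_eq_zero_iff]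
    exact hn⟩
  have hy : ∀ p : PolyA R n, secHom y (mapPolyA n (algebraMap R R') p) =
      algebraMap (AdjoinRoot f₀) R' (AdjoinRoot.mk f₀ (p.map MvPolynomial.constantCoeff)) := by
    intro p
    rw [secHom_mapPolyA, IsScalarTower.algebraMap_eq R (AdjoinRoot f₀) R', ← Polynomial.hom_eval₂,
      ← Polynomial.aeval_def, AdjoinRoot.aeval_eq]
  have : Module.Finite R (AdjoinRoot f₀) := hf₀.finite_adjoinRoot
  have hQm : ∀ c ∈ IsLocalRing.maximalIdeal R, algebraMap R (AdjoinRoot f₀) c ∈ Q := fun c hc => by
    show ε (algebraMap R (AdjoinRoot f₀) c) = 0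
    rw [AdjoinRoot.algebraMap_eq, AdjoinRoot.lift_of, IsLocalRing.residue_eq_zero_iff]
    exact hc
  have hmax : IsLocalRing.maximalIdeal R' ≤ (IsLocalRing.maximalIdeal R).map (algebraMap R R') := by
    set K := (IsLocalRing.maximalIdeal R).map (algebraMap R R')
    have hmk : ∀ p : R[X], algebraMap (AdjoinRoot f₀) R' (AdjoinRoot.mk f₀ p) = p.eval₂ (algebraMap R R') y := by
      intro p
      rw [← AdjoinRoot.aeval_eq, Polynomial.aeval_def, Polynomial.hom_eval₂,
        IsScalarTower.algebraMap_eq R (AdjoinRoot f₀) R']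
    have hya : y - algebraMap R R' a ∈ K := by
      obtain ⟨H, hH⟩ := Polynomial.X_sub_C_dvd_sub_C_eval (a := a) (p := f₀)
      have h1 : (0 : R') - algebraMap R R' (f₀.eval a) = (y - algebraMap R R' a) * H.eval₂ (algebraMap R R') y := by
        have := congrArg (Polynomial.eval₂ (algebraMap R R') y) hH
        rw [Polynomial.eval₂_sub, Polynomial.eval₂_C, Polynomial.eval₂_mul, Polynomial.eval₂_sub,
          Polynomial.eval₂_X, Polynomial.eval₂_C, ← hmk, AdjoinRoot.mk_self, map_zero] at this
        exact this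
      have hHu : IsUnit (H.eval₂ (algebraMap R R') y) := by
        rw [← hmk, IsLocalization.AtPrime.isUnit_to_map_iff R' Q]
        show ε (AdjoinRoot.mk f₀ H) ≠ 0
        simp only [ε, AdjoinRoot.lift_mk, Polynomial.eval₂_at_apply]
        have hd' := congrArg (fun q => (derivative q).eval a) hH
        simp only [derivative_sub, derivative_C, sub_zero, derivative_mul, derivative_X, one_mul,
          Polynomial.eval_add, Polynomial.eval_mul, Polynomial.eval_sub, Polynomial.eval_X, Polynomial.eval_C,
          sub_self, zero_mul, add_zero] at hd'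
        rw [← hd', show derivative f₀ = (derivative f).map MvPolynomial.constantCoeff from
          Polynomial.derivative_map _ _, hev]
        exact (hd.map (IsLocalRing.residue R)).ne_zero
      rw [← Ideal.mul_unit_mem_iff_mem K hHu, ← h1, zero_sub, neg_mem_iff, hev]
      exact Ideal.mem_map_of_mem _ hf
    intro v hv
    obtain ⟨x, ⟨s, hs⟩, rfl⟩ := IsLocalization.exists_mk'_eq Q.primeCompl v
    obtain ⟨p, rfl⟩ := AdjoinRoot.mk_surjective x
    have hxQ : AdjoinRoot.mk f₀ p ∈ Q := by
      by_contra h
      exact (IsLocalRing.mem_maximalIdeal _).mp hv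
        ((IsLocalization.AtPrime.isUnit_mk'_iff R' Q _ ⟨s, hs⟩).mpr h)
    have hpa : p.eval a ∈ IsLocalRing.maximalIdeal R := by
      rw [← IsLocalRing.residue_eq_zero_iff, ← Polynomial.eval₂_at_apply]
      exact (AdjoinRoot.lift_mk _ p).symm.trans hxQ
    obtain ⟨t, ht⟩ := Polynomial.sub_dvd_eval_sub y (algebraMap R R' a) (p.map (algebraMap R R'))
    rw [Polynomial.eval_map, Polynomial.eval_map_apply, ← hmk] at ht
    rw [IsLocalization.mk'_eq_mul_mk'_one]
    refine Ideal.mul_mem_right _ _ ?_
    rw [← sub_add_cancel (algebraMap (AdjoinRoot f₀) R' (AdjoinRoot.mk f₀ p)) (algebraMap R R' (p.eval a)), ht]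
    exact add_mem (Ideal.mul_mem_right _ _ hya) (Ideal.mem_map_of_mem _ hpa)
  refine ⟨R', inferInstance, inferInstance, inferInstance, inferInstance, hloc,
    ⟨hmax, torsionExt_of_finite_free Q hQm R'⟩,
    ⟨mapPolyA n (algebraMap R R') f, y, hmonic.map _, ?_, ?_⟩, rfl, ?_⟩
  · rw [hy]
    show algebraMap _ _ (AdjoinRoot.mk f₀ f₀) = 0
    rw [AdjoinRoot.mk_self, map_zero]
  · rw [show derivative (mapPolyA n (algebraMap R R') f) = mapPolyA n (algebraMap R R') (derivative f)
      from Polynomial.derivative_map _ _, hy, IsLocalization.AtPrime.isUnit_to_map_iff R' Q]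
    show ε _ ≠ 0
    simp only [ε, AdjoinRoot.lift_mk, Polynomial.eval₂_at_apply, hev]
    exact (hd.map (IsLocalRing.residue R)).ne_zero
  · rw [IsScalarTower.algebraMap_apply R (AdjoinRoot f₀) R', ← map_sub, hmem, map_sub,
      AdjoinRoot.algebraMap_eq, AdjoinRoot.lift_of, AdjoinRoot.lift_root, sub_self]

theorem flat_tensor_of_flat {R' T : Type u} [CommRing R'] [CommRing T] [Algebra R' T] (L : Type u)
    [AddCommGroup L] [Module T L] [Module R' L] [IsScalarTower R' T L] [Module.Flat T L]
    (N : Type u) [AddCommGroup N] [Module T N] [Module R' N] [IsScalarTower R' T N] [Module.Flat R' N] :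
    Module.Flat R' (L ⊗[T] N) := by
  rw [Module.Flat.iff_lTensor_injective']
  intro I
  have hnat : ∀ z : (L ⊗[T] N) ⊗[R'] I,
      AlgebraTensorModule.assoc R' T T L N R' (I.subtype.lTensor (L ⊗[T] N) z) =
        (AlgebraTensorModule.lTensor T N I.subtype).lTensor L (AlgebraTensorModule.assoc R' T T L N I z) := by
    intro z
    induction z using TensorProduct.induction_on with
    | zero => simp
    | tmul x c =>
      induction x using TensorProduct.induction_on with
      | zero => simp
      | tmul a b => simp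
      | add x y hx hy => simp only [TensorProduct.add_tmul, map_add, hx, hy]
    | add x y hx hy => simp only [map_add, hx, hy]
  intro z w hzw
  have h := congrArg (AlgebraTensorModule.assoc R' T T L N R') hzw
  rw [hnat, hnat] at h
  have hinj : Function.Injective (AlgebraTensorModule.lTensor T N I.subtype) :=
    Module.Flat.iff_lTensor_injective'.mp ‹Module.Flat R' N› I
  exact (AlgebraTensorModule.assoc R' T T L N I).injective
    (Module.Flat.lTensor_preserves_injective_linearMap _ hinj h)

/-- Base change along `A → A' → D`, computed over a localization `D₀` of `A`. -/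
theorem flat_restrictScalars_tensor {R' A A' D₀ D : Type u} [CommRing R'] [CommRing A] [CommRing A']
    [CommRing D₀] [CommRing D] [Algebra R' A'] [Algebra R' D] [Algebra A A'] [Algebra A D₀] [Algebra A D]
    [Algebra A' D] [Algebra D₀ D] [IsScalarTower R' A' D] [IsScalarTower A A' D] [IsScalarTower A D₀ D]
    (S : Submonoid A) [IsLocalization S D₀] [Module.Flat A' D]
    (M : Type u) [AddCommGroup M] [Module A M] [Module D₀ M] [IsScalarTower A D₀ M]
    [Module.Flat R' (A' ⊗[A] M)] : Module.Flat R' (RestrictScalars R' D (D ⊗[D₀] M)) := by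
  have h : Module.Flat R' (D ⊗[A'] (A' ⊗[A] M)) := flat_tensor_of_flat D (A' ⊗[A] M)
  have hc := IsLocalization.tensorProduct_compatibleSMul S D₀ D M
  let e₁ : D ⊗[A'] (A' ⊗[A] M) ≃ₗ[D] D ⊗[A] M := AlgebraTensorModule.cancelBaseChange A A' D D M
  let e₂ : D ⊗[D₀] M ≃ₗ[D] D ⊗[A] M := TensorProduct.equivOfCompatibleSMul A D₀ D D M
  let e := e₁.trans e₂.symm
  refine Module.Flat.of_linearEquiv (M := D ⊗[A'] (A' ⊗[A] M)) (R := R')
    { ((RestrictScalars.addEquiv R' D (D ⊗[D₀] M)).trans e.symm.toAddEquiv) with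
      map_smul' := fun r x => ?_ }
  show e.symm (algebraMap R' D r • RestrictScalars.addEquiv R' D (D ⊗[D₀] M) x) = r • _
  rw [map_smul, IsScalarTower.algebraMap_smul]
  rfl

/-- The same, for injectivity on modules killed by the maximal ideal. -/
theorem grInj_restrictScalars_tensor {R' A A' D₀ D : Type u} [CommRing R'] [IsLocalRing R'] [CommRing A] [CommRing A']
    [CommRing D₀] [CommRing D] [Algebra R' A'] [Algebra R' D] [Algebra A A'] [Algebra A D₀] [Algebra A D]
    [Algebra A' D] [Algebra D₀ D] [IsScalarTower R' A' D] [IsScalarTower A A' D] [IsScalarTower A D₀ D]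
    (S : Submonoid A) [IsLocalization S D₀] [Module.Flat A' D]
    (M : Type u) [AddCommGroup M] [Module A M] [Module D₀ M] [IsScalarTower A D₀ M]
    (hM : GrInj R' (A' ⊗[A] M)) : GrInj R' (D ⊗[D₀] M) := by
  have h : GrInj R' (D ⊗[A'] (A' ⊗[A] M)) := grInj_tensor D (A' ⊗[A] M) hM
  have hc := IsLocalization.tensorProduct_compatibleSMul S D₀ D M
  let e₁ : D ⊗[A'] (A' ⊗[A] M) ≃ₗ[D] D ⊗[A] M := AlgebraTensorModule.cancelBaseChange A A' D D M
  let e₂ : D ⊗[D₀] M ≃ₗ[D] D ⊗[A] M := TensorProduct.equivOfCompatibleSMul A D₀ D D M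
  let e := e₁.trans e₂.symm
  refine grInj_of_linearEquiv (M := D ⊗[A'] (A' ⊗[A] M)) (R := R')
    { e with map_smul' := fun r x => ?_ } h
  show e (r • x) = r • e x
  rw [← IsScalarTower.algebraMap_smul D r x, map_smul, IsScalarTower.algebraMap_smul]

section BaseChange

variable {R R' : Type u} [CommRing R] [CommRing R'] [Algebra R R'] {n : ℕ} (f : PolyA R n)

/-- The map `R[x][y]/(f) → R'[x][y]/(f)`. -/
def quotMap : QuotA f →ₐ[R] QuotA (mapPolyA n (algebraMap R R') f) :=
  AdjoinRoot.mapAlgHom (MvPolynomial.mapAlgHom (Algebra.ofId R R')) f _ dvd_rfl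

theorem quotMap_of (b : MvPolynomial (Fin n) R) :
    quotMap (R' := R') f (AdjoinRoot.of f b) =
      AdjoinRoot.of _ (MvPolynomial.map (algebraMap R R') b) :=
  AdjoinRoot.map_of _ _ _ dvd_rfl _

theorem quotMap_root :
    quotMap (R' := R') f (AdjoinRoot.root f) = AdjoinRoot.root _ :=
  AdjoinRoot.map_root _ _ _ dvd_rfl

theorem quotMap_mk (p : PolyA R n) :
    quotMap (R' := R') f (AdjoinRoot.mk f p) = AdjoinRoot.mk _ (mapPolyA n (algebraMap R R') p) := by
  induction p using Polynomial.induction_on' with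
  | add p q hp hq => simp only [map_add, hp, hq]
  | monomial k b =>
    rw [← Polynomial.C_mul_X_pow_eq_monomial]
    simp only [map_mul, map_pow, AdjoinRoot.mk_C, AdjoinRoot.mk_X, quotMap_of, quotMap_root]
    rw [show mapPolyA n (algebraMap R R') (Polynomial.C b) = Polynomial.C (MvPolynomial.map (algebraMap R R') b)
        from Polynomial.map_C _,
      show mapPolyA n (algebraMap R R') (Polynomial.X : PolyA R n) = Polynomial.X from Polynomial.map_X _,
      AdjoinRoot.mk_C, AdjoinRoot.mk_X]

attribute [local instance] Algebra.TensorProduct.rightAlgebra in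
theorem quotMap_isPushout :
    letI := (quotMap (R' := R') f).toRingHom.toAlgebra
    Algebra.IsPushout R R' (QuotA f) (QuotA (mapPolyA n (algebraMap R R') f)) := by
  letI := (quotMap (R' := R') f).toRingHom.toAlgebra
  have : IsScalarTower R (QuotA f) (QuotA (mapPolyA n (algebraMap R R') f)) :=
    IsScalarTower.of_algebraMap_eq fun c => ((quotMap (R' := R') f).commutes c).symm
  let u : MvPolynomial (Fin n) R' →ₐ[R'] R' ⊗[R] QuotA f :=
    MvPolynomial.aeval fun i => 1 ⊗ₜ algebraMap (MvPolynomial (Fin n) R) (QuotA f) (MvPolynomial.X i)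
  have hu : u.toRingHom.comp (MvPolynomial.map (algebraMap R R')) =
      (Algebra.TensorProduct.includeRight (R := R) (A := R') (B := QuotA f)).toRingHom.comp
        (algebraMap (MvPolynomial (Fin n) R) (QuotA f)) := by
    refine MvPolynomial.ringHom_ext (fun c => ?_) (fun i => ?_)
    · simp only [RingHom.comp_apply, AlgHom.toRingHom_eq_coe, AlgHom.coe_toRingHom, MvPolynomial.map_C, u,
        MvPolynomial.aeval_C, Algebra.TensorProduct.algebraMap_apply, Algebra.TensorProduct.includeRight_apply,
        Algebra.algebraMap_self, RingHom.id_apply]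
      rw [← MvPolynomial.algebraMap_eq, ← IsScalarTower.algebraMap_apply, Algebra.algebraMap_eq_smul_one,
        Algebra.algebraMap_eq_smul_one, TensorProduct.smul_tmul]
    · simp [u]
  let inv : QuotA (mapPolyA n (algebraMap R R') f) →ₐ[R'] R' ⊗[R] QuotA f :=
    AdjoinRoot.liftAlgHom _ u (1 ⊗ₜ AdjoinRoot.root f) (by
      show (f.map (MvPolynomial.map (algebraMap R R'))).eval₂ u.toRingHom _ = 0
      rw [Polynomial.eval₂_map, hu]
      refine (Polynomial.hom_eval₂ f _ (Algebra.TensorProduct.includeRight (R := R) (A := R') (B := QuotA f)).toRingHom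
        (AdjoinRoot.root f)).symm.trans ?_
      rw [AdjoinRoot.algebraMap_eq, AdjoinRoot.eval₂_root, map_zero])
  let fwd : R' ⊗[R] QuotA f →ₐ[R'] QuotA (mapPolyA n (algebraMap R R') f) :=
    Algebra.TensorProduct.lift (Algebra.ofId R' _) (quotMap f) fun _ _ => .all _ _
  have h₁ : fwd.comp inv = AlgHom.id R' _ := by
    refine AlgHom.ext fun x => ?_
    obtain ⟨p, rfl⟩ := AdjoinRoot.mk_surjective x
    induction p using Polynomial.induction_on' with
    | add p q hp hq => simp only [map_add, hp, hq]
    | monomial k b =>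
      rw [← Polynomial.C_mul_X_pow_eq_monomial, map_mul, map_pow, AdjoinRoot.mk_X, map_mul, map_mul,
        map_pow, map_pow]
      congr 1
      · rw [AdjoinRoot.mk_C]
        simp only [AlgHom.comp_apply, AlgHom.id_apply, inv, AdjoinRoot.liftAlgHom_of]
        have : fwd.comp u = IsScalarTower.toAlgHom R' (MvPolynomial (Fin n) R')
            (QuotA (mapPolyA n (algebraMap R R') f)) := by
          refine MvPolynomial.algHom_ext fun i => ?_
          simp [u, fwd, quotMap_of, AdjoinRoot.algebraMap_eq]
        exact DFunLike.congr_fun this b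
      · simp [inv, fwd, quotMap_root]
  have h₂ : inv.comp fwd = AlgHom.id R' _ := by
    refine Algebra.TensorProduct.ext (by ext) ?_
    refine AlgHom.ext fun x => ?_
    obtain ⟨p, rfl⟩ := AdjoinRoot.mk_surjective x
    show inv (fwd (1 ⊗ₜ AdjoinRoot.mk f p)) = 1 ⊗ₜ AdjoinRoot.mk f p
    rw [Algebra.TensorProduct.lift_tmul, map_one, one_mul, quotMap_mk]
    simp only [inv, AdjoinRoot.liftAlgHom_mk]
    show (p.map (MvPolynomial.map (algebraMap R R'))).eval₂ u.toRingHom _ = _
    rw [Polynomial.eval₂_map, hu]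
    refine (Polynomial.hom_eval₂ p _ (Algebra.TensorProduct.includeRight (R := R) (A := R') (B := QuotA f)).toRingHom
        (AdjoinRoot.root f)).symm.trans ?_
    rw [← Polynomial.aeval_def, AdjoinRoot.aeval_eq]
    rfl
  let e : R' ⊗[R] QuotA f ≃ₐ[R'] QuotA (mapPolyA n (algebraMap R R') f) :=
    AlgEquiv.ofAlgHom fwd inv h₁ h₂
  refine ⟨IsBaseChange.of_equiv e.toLinearEquiv fun x => ?_⟩
  show fwd (1 ⊗ₜ x) = quotMap f x
  simp [fwd]

end BaseChange

/-- The point ring over an extension, with the data needed to transfer flatness and descend. -/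
theorem exists_point_extension {R : Type u} [CommRing R] [IsLocalRing R] {n : ℕ} (f : PolyA R n)
    (a : R) (hmonic : f.Monic) (hf : secHom a f ∈ IsLocalRing.maximalIdeal R)
    (hd : IsUnit (secHom a (derivative f)))
    (D₀ : Type u) [CommRing D₀] [IsLocalRing D₀] [Algebra R D₀] [Algebra (QuotA f) D₀]
    [IsScalarTower R (QuotA f) D₀] [IsLocalization (ptSub f a) D₀] :
    ∃ (R' : Type u) (_ : CommRing R') (_ : IsLocalRing R') (d : PtData R' n)
      (D : Type u) (_ : CommRing D) (_ : IsLocalRing D) (_ : Algebra R' D) (_ : Algebra D₀ D)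
      (_ : Algebra (QuotA d.f) D) (_ : IsScalarTower R' (QuotA d.f) D)
      (_ : IsLocalization (ptSub d.f d.a) D),
      Module.Flat D₀ D ∧ IsLocalHom (algebraMap D₀ D) ∧
      (∃ _ : Algebra R R', IsLocalRing.maximalIdeal R' ≤ (IsLocalRing.maximalIdeal R).map (algebraMap R R') ∧
        TorsionExt R R' ∧
        (∀ c : R, algebraMap D₀ D (algebraMap R D₀ c) = algebraMap R' D (algebraMap R R' c)) ∧
        Module.Flat R R') ∧
      (∀ (M : Type u) [AddCommGroup M] [Module D₀ M] [Module R M] [IsScalarTower R D₀ M]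
        [Module.Flat R M], Module.Flat R' (RestrictScalars R' D (D ⊗[D₀] M))) ∧
      ∀ (M : Type u) [AddCommGroup M] [Module D₀ M] [Module R M] [IsScalarTower R D₀ M],
        GrInj R M → GrInj R' (D ⊗[D₀] M) := by
  obtain ⟨R', _, _, _, hflat, hloc, hext, d, hdf, hda⟩ := exists_section_extension f a hmonic hf hd
  obtain ⟨f', y, hm', hy, hy'⟩ := d
  simp only at hdf hda
  subst hdf
  let ψ := quotMap (R' := R') f
  set A := QuotA f
  set A' := QuotA (mapPolyA n (algebraMap R R') f)
  letI : Algebra A A' := ψ.toRingHom.toAlgebra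
  have : IsScalarTower R A A' := IsScalarTower.of_algebraMap_eq fun c => (ψ.commutes c).symm
  have hpush : Algebra.IsPushout R R' A A' := quotMap_isPushout f
  have hres : ∀ p : PolyA R n, IsUnit (secHom y (mapPolyA n (algebraMap R R') p)) ↔ IsUnit (secHom a p) := by
    intro p
    have hsub : secHom y (mapPolyA n (algebraMap R R') p) - algebraMap R R' (secHom a p) ∈
        IsLocalRing.maximalIdeal R' := by
      rw [← secHom_map]
      obtain ⟨t, ht⟩ := Polynomial.sub_dvd_eval_sub y (algebraMap R R' a)
        ((mapPolyA n (algebraMap R R') p).map MvPolynomial.constantCoeff)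
      rw [Polynomial.eval_map, Polynomial.eval_map] at ht
      show (mapPolyA n (algebraMap R R') p).eval₂ MvPolynomial.constantCoeff y -
        (mapPolyA n (algebraMap R R') p).eval₂ MvPolynomial.constantCoeff _ ∈ _
      rw [ht]
      exact Ideal.mul_mem_right _ _ hda
    constructor
    · intro h
      by_contra hn
      have : algebraMap R R' (secHom a p) ∈ IsLocalRing.maximalIdeal R' :=
        (IsLocalRing.mem_maximalIdeal _).mpr fun hu => hn (hloc.1 _ hu)
      exact (IsLocalRing.mem_maximalIdeal _).mp (by simpa using add_mem hsub this) h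
    · intro h
      by_contra hn
      exact (IsLocalRing.mem_maximalIdeal _).mp
        (by simpa using sub_mem ((IsLocalRing.mem_maximalIdeal _).mpr hn) hsub) (h.map (algebraMap R R'))
  let D := Localization (ptSub (mapPolyA n (algebraMap R R') f) y)
  have hDloc : IsLocalRing D := isLocalRing_of_ptSub (by rw [hy]; exact zero_mem _) D
  have hunits : ∀ s : ptSub f a, IsUnit ((algebraMap A' D).comp (algebraMap A A') s) := by
    rintro ⟨_, s, hs, rfl⟩
    refine IsLocalization.map_units D (⟨_, ⟨mapPolyA n (algebraMap R R') s, (hres s).mpr hs, ?_⟩⟩ :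
      ptSub (mapPolyA n (algebraMap R R') f) y)
    exact (quotMap_mk f s).symm
  letI : Algebra D₀ D := (IsLocalization.lift (S := D₀) hunits).toAlgebra
  have : IsScalarTower A A' D := inferInstance
  have : IsScalarTower A D₀ D := IsScalarTower.of_algebraMap_eq fun x =>
    (IsScalarTower.algebraMap_apply A A' D x).trans (IsLocalization.lift_eq (S := D₀) hunits x).symm
  have hflatA' : Module.Flat A A' := Module.Flat.isBaseChange R A R' A'
    (Algebra.IsPushout.out (R := R) (S := A) (R' := R') (S' := A') (self := hpush.symm))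
  have hflatD : Module.Flat D₀ D :=
    (Module.flat_iff_of_isLocalization D₀ (ptSub f a) D).mpr (Module.Flat.trans A A' D)
  refine ⟨R', inferInstance, inferInstance, ⟨_, y, hm', hy, hy'⟩, D, inferInstance, hDloc, inferInstance,
    inferInstance, inferInstance, inferInstance, inferInstance, hflatD, ?_,
    ⟨inferInstance, hext.1, hext.2, fun c => by
      rw [IsScalarTower.algebraMap_apply R A D₀, ← IsScalarTower.algebraMap_apply A D₀ D,
        IsScalarTower.algebraMap_apply A A' D, ← IsScalarTower.algebraMap_apply R A A',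
        IsScalarTower.algebraMap_apply R R' A', ← IsScalarTower.algebraMap_apply R' A' D], hflat⟩, ?_, ?_⟩
  · constructor
    intro v hv
    obtain ⟨x, ⟨_, s, hs, rfl⟩, rfl⟩ := IsLocalization.exists_mk'_eq (ptSub f a) v
    obtain ⟨p, rfl⟩ := AdjoinRoot.mk_surjective x
    suffices IsUnit (secHom a p) by
      rw [IsLocalization.mk'_eq_mul_mk'_one]
      exact (IsLocalization.map_units D₀ (⟨_, ptSub_mk_mem this⟩ : ptSub f a)).mul
        (IsUnit.of_mul_eq_one_right _ (IsLocalization.mk'_spec' D₀ 1 (⟨_, s, hs, rfl⟩ : ptSub f a) |>.trans (map_one _)))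
    have h1 : algebraMap D₀ D (algebraMap A D₀ (AdjoinRoot.mk f p)) =
        algebraMap A' D (AdjoinRoot.mk _ (mapPolyA n (algebraMap R R') p)) := by
      rw [← IsScalarTower.algebraMap_apply A D₀ D, ← quotMap_mk]
      rfl
    have h2 : IsUnit (algebraMap A' D (AdjoinRoot.mk _ (mapPolyA n (algebraMap R R') p))) := by
      rw [← h1, ← IsLocalization.mk'_spec D₀ (AdjoinRoot.mk f p) (⟨_, s, hs, rfl⟩ : ptSub f a), map_mul]
      exact hv.mul ((IsLocalization.map_units D₀ _).map _)
    obtain ⟨w, hw⟩ := h2.exists_left_inv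
    obtain ⟨z, ⟨_, t, ht, rfl⟩, rfl⟩ :=
      IsLocalization.exists_mk'_eq (ptSub (mapPolyA n (algebraMap R R') f) y) w
    obtain ⟨q, rfl⟩ := AdjoinRoot.mk_surjective z
    rw [mul_comm, ← IsLocalization.mk'_one (M := ptSub (mapPolyA n (algebraMap R R') f) y) D (AdjoinRoot.mk _
      (mapPolyA n (algebraMap R R') p)), ← IsLocalization.mk'_mul, IsLocalization.mk'_eq_iff_eq_mul,
      one_mul] at hw
    obtain ⟨⟨_, r, hr, rfl⟩, hc⟩ := (IsLocalization.eq_iff_exists (ptSub (mapPolyA n (algebraMap R R') f) y) D).mp hw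
    simp only [one_mul, Submonoid.coe_mul] at hc
    rw [← map_mul, ← map_mul, ← map_mul, AdjoinRoot.mk_eq_mk] at hc
    obtain ⟨k, hk⟩ := hc
    have h3 := congrArg (secHom y) hk
    rw [map_mul (secHom y) (mapPolyA n _ f), hy, zero_mul, map_sub, sub_eq_zero, map_mul, map_mul, map_mul] at h3
    rw [← hres]
    have h4 : IsUnit (secHom y r * (secHom y (mapPolyA n (algebraMap R R') p) * secHom y q)) := by
      rw [h3]; exact hr.mul ht
    exact isUnit_of_mul_isUnit_left (isUnit_of_mul_isUnit_right h4)
  · intro M _ _ _ _ _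
    letI : Module A M := Module.compHom M (algebraMap A D₀)
    have : IsScalarTower A D₀ M := IsScalarTower.of_algebraMap_smul fun _ _ => rfl
    have : IsScalarTower R A M := IsScalarTower.of_algebraMap_smul fun c m => by
      show algebraMap A D₀ (algebraMap R A c) • m = _
      rw [← IsScalarTower.algebraMap_apply, algebraMap_smul]
    let e₁ : A' ⊗[A] M ≃ₗ[R'] R' ⊗[R] M := Algebra.IsPushout.cancelBaseChange R R' A A' M
    have hN : Module.Flat R' (A' ⊗[A] M) := Module.Flat.of_linearEquiv e₁
    exact flat_restrictScalars_tensor (A' := A') (ptSub f a) M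
  · intro M _ _ _ _ hM
    let _ : Module A M := Module.compHom M (algebraMap A D₀)
    have : IsScalarTower A D₀ M := IsScalarTower.of_algebraMap_smul fun _ _ => rfl
    have : IsScalarTower R A M := IsScalarTower.of_algebraMap_smul fun c m => by
      show algebraMap A D₀ (algebraMap R A c) • m = _
      rw [← IsScalarTower.algebraMap_apply, algebraMap_smul]
    let e₁ : A' ⊗[A] M ≃ₗ[R'] R' ⊗[R] M := Algebra.IsPushout.cancelBaseChange R R' A A' M
    have := hloc
    have hN : GrInj R' (A' ⊗[A] M) := grInj_of_linearEquiv e₁.symm (grInj_baseChange hM)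
    exact grInj_restrictScalars_tensor (A' := A') (ptSub f a) M hN

end Groth.Agent.FlatCrit65
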