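import Groth.Agent.FlatCrit65.Point.Relation

/-!
# The first dévissage step at a rational point

`ContentRing R D`: the prime `P = 𝔪D`, content ideals, and cancellation modulo every ideal.  A finite
`D`-module `N` flat over `R` then contains a finite free module with `R`-flat cokernel killed by an
element outside `P`.
-/

universe u

noncomputable section

open TensorProduct

namespace Groth.Agent.FlatCrit65

structure ContentRing (R D : Type u) [CommRing R] [IsLocalRing R] [CommRing D] [Algebra R D] : Prop where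
  prime : ((IsLocalRing.maximalIdeal R).map (algebraMap R D)).IsPrime
  content : ∀ v : D, ∃ I : Ideal R, I.FG ∧ v ∈ I.map (algebraMap R D) ∧
    ∀ J : Ideal R, v ∈ J.map (algebraMap R D) → I ≤ J
  cancel : ∀ t ∉ (IsLocalRing.maximalIdeal R).map (algebraMap R D), ∀ (J : Ideal R) (v : D),
    t * v ∈ J.map (algebraMap R D) → v ∈ J.map (algebraMap R D)

section TensorAux

variable {R : Type u} [CommRing R] (J : Ideal R)

theorem mulMap_natural {M M' : Type u} [AddCommGroup M] [Module R M] [AddCommGroup M'] [Module R M']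
    (f : M →ₗ[R] M') (w : J ⊗[R] M) :
    TensorProduct.lid R M' (J.subtype.rTensor M' (f.lTensor J w)) =
      f (TensorProduct.lid R M (J.subtype.rTensor M w)) := by
  induction w using TensorProduct.induction_on with
  | zero => simp
  | tmul a b => simp
  | add x y hx hy => simp only [map_add, hx, hy]

theorem mulMap_mem_smul {M : Type u} [AddCommGroup M] [Module R M] (w : J ⊗[R] M) :
    TensorProduct.lid R M (J.subtype.rTensor M w) ∈ J • (⊤ : Submodule R M) := by
  induction w using TensorProduct.induction_on with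
  | zero => simp
  | tmul a b =>
    simp only [LinearMap.rTensor_tmul, Submodule.subtype_apply, TensorProduct.lid_tmul]
    exact Submodule.smul_mem_smul a.2 Submodule.mem_top
  | add x y hx hy => simp only [map_add]; exact add_mem hx hy

theorem exists_mulMap_eq {D : Type u} [CommRing D] [Algebra R D] (d : D)
    (hd : d ∈ J.map (algebraMap R D)) :
    ∃ w : J ⊗[R] D, TensorProduct.lid R D (J.subtype.rTensor D w) = d := by
  induction hd using Submodule.span_induction with
  | mem x hx =>
    obtain ⟨a, ha, rfl⟩ := hx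
    exact ⟨⟨a, ha⟩ ⊗ₜ 1, by simp [Algebra.smul_def]⟩
  | zero => exact ⟨0, by simp⟩
  | add x y _ _ hx hy =>
    obtain ⟨w, rfl⟩ := hx
    obtain ⟨w', rfl⟩ := hy
    exact ⟨w + w', by simp⟩
  | smul e x _ hx =>
    obtain ⟨w, rfl⟩ := hx
    exact ⟨(LinearMap.mulLeft R e).lTensor J w, mulMap_natural J (LinearMap.mulLeft R e) w⟩

theorem exists_mulMap_pi {D : Type u} [CommRing D] [Algebra R D] {k : ℕ} (c : Fin k → D)
    (hc : ∀ i, c i ∈ J.map (algebraMap R D)) :
    ∃ W : J ⊗[R] (Fin k → D), TensorProduct.lid R _ (J.subtype.rTensor _ W) = c := by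
  choose w hw using fun i => exists_mulMap_eq J (c i) (hc i)
  refine ⟨∑ i, (LinearMap.single R (fun _ => D) i).lTensor J (w i), ?_⟩
  simp only [map_sum, mulMap_natural, hw]
  exact Finset.univ_sum_single c

theorem flat_of_exact_of_lift {F N C : Type u} [AddCommGroup F] [Module R F] [AddCommGroup N] [Module R N]
    [AddCommGroup C] [Module R C] [Module.Flat R N] (f : F →ₗ[R] N) (q : N →ₗ[R] C)
    (hq : Function.Surjective q) (hzero : q.comp f = 0) (hker : ∀ x, q x = 0 → ∃ c, f c = x)
    (hlift : ∀ (J : Ideal R) (c : F), f c ∈ J • (⊤ : Submodule R N) →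
      ∃ W : J ⊗[R] F, TensorProduct.lid R F (J.subtype.rTensor F W) = c) : Module.Flat R C := by
  rw [Module.Flat.iff_rTensor_injective]
  intro J hJ
  rw [injective_iff_map_eq_zero]
  intro z hz
  obtain ⟨z', rfl⟩ := LinearMap.lTensor_surjective J (g := q) hq z
  obtain ⟨c, hc⟩ := hker (TensorProduct.lid R N (J.subtype.rTensor N z'))
    (by rw [← mulMap_natural, hz, map_zero])
  obtain ⟨W, hW⟩ := hlift J c (by rw [hc]; exact mulMap_mem_smul J z')
  have : z' = f.lTensor J W := by
    refine (Module.Flat.iff_rTensor_injective.mp ‹Module.Flat R N› hJ) ?_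
    refine (TensorProduct.lid R N).injective ?_
    rw [mulMap_natural, hW]
    exact hc.symm
  rw [this, ← LinearMap.comp_apply, ← LinearMap.lTensor_comp, hzero, LinearMap.lTensor_zero,
    LinearMap.zero_apply]

end TensorAux

section Free

variable {R D N : Type u} [CommRing R] [IsLocalRing R] [CommRing D] [Algebra R D]
  [AddCommGroup N] [Module D N] [Module R N] [IsScalarTower R D N]

theorem exists_smul_mem_of_le_smul [Module.Finite D N] {P : Ideal D} [P.IsPrime] (N' : Submodule D N)
    (t : D) (ht : t ∉ P) (h : ∀ x : N, t • x ∈ N' ⊔ P • (⊤ : Submodule D N)) :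
    ∃ s ∉ P, ∀ x : N, s • x ∈ N' := by
  let T : Module.End D (N ⧸ N') := algebraMap D (Module.End D (N ⧸ N')) t
  have hT : LinearMap.range T ≤ P • ⊤ := by
    rintro _ ⟨y, rfl⟩
    obtain ⟨x, rfl⟩ := N'.mkQ_surjective y
    obtain ⟨a, ha, b, hb, hab⟩ := Submodule.mem_sup.mp (h x)
    show t • N'.mkQ x ∈ _
    rw [← map_smul, ← hab, map_add,
      show N'.mkQ a = 0 from (Submodule.Quotient.mk_eq_zero N').mpr ha, zero_add]
    have := Submodule.mem_map_of_mem (f := N'.mkQ) hb
    rw [Submodule.map_smul'', Submodule.map_top, Submodule.range_mkQ] at this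
    exact this
  obtain ⟨p, hmonic, -, hcoeff, hp⟩ :=
    LinearMap.exists_monic_and_natDegree_eq_and_coeff_mem_pow_and_aeval_eq_zero D T P hT
  refine ⟨p.eval t, fun hc => ht ?_, fun x => ?_⟩
  · have : p.eval t - t ^ p.natDegree ∈ P := by
      rw [Polynomial.eval_eq_sum_range, Finset.sum_range_succ, hmonic.coeff_natDegree, one_mul,
        add_sub_cancel_right]
      refine Ideal.sum_mem _ fun k hk => Ideal.mul_mem_right _ _ ?_
      exact Ideal.pow_le_self (by have := Finset.mem_range.mp hk; omega) (hcoeff k)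
    exact ‹P.IsPrime›.mem_of_pow_mem _ (by simpa using P.sub_mem hc this)
  · rw [← Submodule.Quotient.mk_eq_zero N', Submodule.Quotient.mk_smul]
    have := congrArg (fun φ : Module.End D (N ⧸ N') => φ (Submodule.Quotient.mk x)) hp
    simpa [T, Polynomial.aeval_algebraMap_apply, Module.algebraMap_end_apply] using this

/-- `t` kills `N` modulo the span of `k` elements which are independent modulo `P`. -/
theorem exists_generators [Module.Finite D N] (P : Ideal D) [P.IsPrime] :
    ∃ (k : ℕ) (v : Fin k → N), (∃ t ∉ P, ∀ x : N, t • x ∈ Submodule.span D (Set.range v)) ∧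
      ∀ c : Fin k → D, ∑ i, c i • v i ∈ P • (⊤ : Submodule D N) → ∀ i, c i ∈ P := by
  classical
  have hex : ∃ k : ℕ, ∃ v : Fin k → N, ∃ t ∉ P, ∀ x : N, t • x ∈ Submodule.span D (Set.range v) := by
    obtain ⟨k, v, hv⟩ := Module.Finite.exists_fin (R := D) (M := N)
    exact ⟨k, v, 1, (Ideal.ne_top_iff_one P).mp Ideal.IsPrime.ne_top',
      fun x => by rw [hv]; exact Submodule.mem_top⟩
  obtain ⟨v, t₀, ht₀, hspan⟩ := Nat.find_spec hex
  refine ⟨Nat.find hex, v, ⟨t₀, ht₀, hspan⟩, ?_⟩
  have hmin := fun m => Nat.find_min hex (m := m)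
  generalize Nat.find hex = k at v hspan hmin ⊢
  intro c hc i
  by_contra hci
  obtain ⟨k', rfl⟩ : ∃ k', k = k' + 1 := ⟨k - 1, by have := i.pos; omega⟩
  refine hmin k' (Nat.lt_succ_self _) ⟨v ∘ i.succAbove, ?_⟩
  set N' := Submodule.span D (Set.range (v ∘ i.succAbove))
  refine exists_smul_mem_of_le_smul (P := P) N' (c i * t₀)
    (fun h => (‹P.IsPrime›.mem_or_mem h).elim hci ht₀) fun x => ?_
  obtain ⟨e, he⟩ := (Submodule.mem_span_range_iff_exists_fun D).mp (hspan x)
  rw [mul_smul, ← he, Fin.sum_univ_succAbove _ i, smul_add, smul_comm (c i) (e i) (v i)]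
  rw [Fin.sum_univ_succAbove _ i] at hc
  have h1 : c i • v i ∈ N' ⊔ P • (⊤ : Submodule D N) := by
    have : c i • v i = (c i • v i + ∑ j, c (i.succAbove j) • v (i.succAbove j)) -
        ∑ j, c (i.succAbove j) • v (i.succAbove j) := (add_sub_cancel_right _ _).symm
    rw [this]
    exact sub_mem (Submodule.mem_sup_right hc) (Submodule.mem_sup_left (Submodule.sum_mem _ fun j _ =>
      Submodule.smul_mem _ _ (Submodule.subset_span ⟨j, rfl⟩)))
  exact add_mem (Submodule.smul_mem _ _ h1) (Submodule.smul_mem _ _ (Submodule.mem_sup_left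
    (Submodule.sum_mem _ fun j _ => Submodule.smul_mem _ _ (Submodule.subset_span ⟨j, rfl⟩))))

variable (hD : ContentRing R D) [Module.Flat R N] {k : ℕ} (α : (Fin k → D) →ₗ[D] N) (t₀ : D)
  (ht₀ : t₀ ∉ (IsLocalRing.maximalIdeal R).map (algebraMap R D))
  (hrange : ∀ x : N, t₀ • x ∈ LinearMap.range α)

include hD ht₀ hrange

theorem eq_zero_of_apply_eq_zero
    (hind : ∀ c, α c = 0 → ∀ i, c i ∈ (IsLocalRing.maximalIdeal R).map (algebraMap R D))
    (c : Fin k → D) (hc : α c = 0) : c = 0 := by
  classical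
  choose I hIfg hIm hImin using fun i => hD.content (c i)
  let Is : Ideal R := ⨆ i, I i
  have hfg : Is.FG := Submodule.fg_iSup _ hIfg
  have hcIs : ∀ i, c i ∈ Is.map (algebraMap R D) := fun i => Ideal.map_mono (le_iSup I i) (hIm i)
  obtain ⟨L, g, hg⟩ := Submodule.fg_iff_exists_fin_generating_family.mp hfg
  have hmap : Is.map (algebraMap R D) = Ideal.span (Set.range (algebraMap R D ∘ g)) := by
    rw [← hg]
    show (Ideal.span _).map _ = _
    rw [Ideal.map_span, ← Set.range_comp]
  choose u hu using fun i => (Ideal.mem_span_range_iff_exists_fun).mp (hmap ▸ hcIs i)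
  have hcsum : c = ∑ a, g a • (fun i => u i a) := by
    funext i
    rw [Finset.sum_apply, ← hu i]
    exact Finset.sum_congr rfl fun a _ => by simp [Algebra.smul_def, mul_comm]
  have hsum : ∑ a, g a • α (fun i => u i a) = 0 := by
    rw [← hc, hcsum, map_sum]
    simp only [LinearMap.map_smul_of_tower]
  obtain ⟨l, b, y, hy, hb⟩ := Module.Flat.isTrivialRelation_of_sum_smul_eq_zero hsum
  choose w hw using fun j => hrange (y j)
  let z : Fin L → (Fin k → D) := fun a => t₀ • (fun i => u i a) - ∑ j, b a j • w j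
  have hz : ∀ a, α (z a) = 0 := by
    intro a
    simp only [z, map_sub, map_smul, map_sum, LinearMap.map_smul_of_tower, hw, hy a, Finset.smul_sum]
    rw [sub_eq_zero]
    exact Finset.sum_congr rfl fun j _ => smul_comm _ _ _
  have hct : t₀ • c = ∑ a, g a • z a := by
    have h0 : ∑ a, g a • ∑ j, b a j • w j = 0 := by
      simp only [Finset.smul_sum, smul_smul]
      rw [Finset.sum_comm]
      simp only [← Finset.sum_smul, hb, zero_smul, Finset.sum_const_zero]
    simp only [z, smul_sub, Finset.sum_sub_distrib, h0, sub_zero]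
    rw [hcsum, Finset.smul_sum]
    exact Finset.sum_congr rfl fun a _ => smul_comm _ _ _
  have hIle : Is ≤ IsLocalRing.maximalIdeal R * Is := by
    refine iSup_le fun i => hImin i _ (hD.cancel t₀ ht₀ _ _ ?_)
    have h := congrFun hct i
    simp only [Pi.smul_apply, Finset.sum_apply, smul_eq_mul] at h
    rw [h]
    refine Ideal.sum_mem _ fun a _ => ?_
    have hga : g a ∈ Is := by rw [← hg]; exact Submodule.subset_span ⟨a, rfl⟩
    rw [Ideal.map_mul, Algebra.smul_def, mul_comm (algebraMap R D (g a))]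
    exact Ideal.mul_mem_mul (hind _ (hz a) i) (Ideal.mem_map_of_mem _ hga)
  have hbot : Is = ⊥ := Submodule.eq_bot_of_le_smul_of_le_jacobson_bot _ _ hfg
    (by rwa [smul_eq_mul]) (IsLocalRing.maximalIdeal_le_jacobson _)
  funext i
  have h := hcIs i
  rw [hbot, Ideal.map_bot, Ideal.mem_bot] at h
  exact h

omit [Module.Flat R N] in
theorem coord_mem_of_apply_mem (hinj : Function.Injective α) (J : Ideal R) (c : Fin k → D)
    (hc : α c ∈ J • (⊤ : Submodule R N)) (i : Fin k) : c i ∈ J.map (algebraMap R D) := by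
  have key : ∀ y ∈ J • (⊤ : Submodule R N),
      ∃ e : Fin k → D, (∀ i, e i ∈ J.map (algebraMap R D)) ∧ t₀ • y = α e := by
    intro y hy
    refine Submodule.smul_induction_on hy (fun a ha x _ => ?_) (fun x y hx hy => ?_)
    · obtain ⟨e, he⟩ := hrange x
      refine ⟨a • e, fun i => ?_, ?_⟩
      · simp only [Pi.smul_apply, Algebra.smul_def]
        exact Ideal.mul_mem_right _ _ (Ideal.mem_map_of_mem _ ha)
      · rw [LinearMap.map_smul_of_tower, he, smul_comm]
    · obtain ⟨e, he, hte⟩ := hx
      obtain ⟨e', he', hte'⟩ := hy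
      exact ⟨e + e', fun i => add_mem (he i) (he' i), by rw [smul_add, map_add, hte, hte']⟩
  obtain ⟨e, he, hte⟩ := key _ hc
  refine hD.cancel t₀ ht₀ J _ ?_
  rw [← map_smul] at hte
  have h3 := congrFun (hinj hte) i
  simp only [Pi.smul_apply, smul_eq_mul] at h3
  rw [h3]; exact he i

theorem flat_coker (hinj : Function.Injective α) : Module.Flat R (N ⧸ LinearMap.range α) := by
  let q : N →ₗ[R] N ⧸ LinearMap.range α := (LinearMap.range α).mkQ.restrictScalars R
  have h1 : Function.Surjective q := (LinearMap.range α).mkQ_surjective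
  have h2 : q.comp (α.restrictScalars R) = 0 :=
    LinearMap.ext fun x => (Submodule.Quotient.mk_eq_zero _).mpr (LinearMap.mem_range_self α x)
  have h3 : ∀ x, q x = 0 → ∃ c, (α.restrictScalars R) c = x := fun x hx => by
    obtain ⟨c, hc⟩ := LinearMap.mem_range.mp ((Submodule.Quotient.mk_eq_zero _).mp hx)
    exact ⟨c, hc⟩
  exact flat_of_exact_of_lift (α.restrictScalars R) q h1 h2 h3
    (fun J c hc => exists_mulMap_pi J c (fun i => coord_mem_of_apply_mem hD α t₀ ht₀ hrange hinj J c hc i))

omit hD ht₀ hrange in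
theorem exists_free_sub [Module.Finite D N] (hD : ContentRing R D) :
    ∃ (k : ℕ) (α : (Fin k → D) →ₗ[D] N), Function.Injective α ∧
      Module.Flat R (N ⧸ LinearMap.range α) ∧
      ∃ t ∉ (IsLocalRing.maximalIdeal R).map (algebraMap R D), ∀ x : N, t • x ∈ LinearMap.range α := by
  have := hD.prime
  obtain ⟨k, v, ⟨t, ht, hspan⟩, hind⟩ :=
    exists_generators (N := N) ((IsLocalRing.maximalIdeal R).map (algebraMap R D))
  let α : (Fin k → D) →ₗ[D] N := Fintype.linearCombination D v
  have hrange : ∀ x : N, t • x ∈ LinearMap.range α := fun x => by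
    rw [Fintype.range_linearCombination]; exact hspan x
  have hinj : Function.Injective α := (injective_iff_map_eq_zero α).mpr fun c hc =>
    eq_zero_of_apply_eq_zero hD α t ht hrange (fun c' hc' => hind c' (by
      have h : ∑ i, c' i • v i = 0 := hc'
      rw [h]; exact zero_mem _)) c hc
  exact ⟨k, α, hinj, flat_coker hD α t ht hrange hinj, t, ht, hrange⟩

end Free

end Groth.Agent.FlatCrit65
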