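import Groth.Agent.FlatCrit65.Point.Series

/-!
# Content ideals at a rational point

`Rel d J p`: up to an element invertible at the section, `p ∈ (f) + J·R[x][y]`.  This holds iff all
coefficients of the expansion of `p` lie in `J`; the ideal generated by those coefficients is
finitely generated; and elements with a unit coefficient can be cancelled.
-/

universe u

noncomputable section

namespace Groth.Agent.FlatCrit65

open Polynomial

def mapPolyA {R R' : Type u} [CommRing R] [CommRing R'] (n : ℕ) (g : R →+* R') :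
    PolyA R n →+* PolyA R' n := Polynomial.mapRingHom (MvPolynomial.map g)

theorem secHom_map {R R' : Type u} [CommRing R] [CommRing R'] {n : ℕ} (g : R →+* R') (a : R)
    (p : PolyA R n) : secHom (g a) (mapPolyA n g p) = g (secHom a p) := by
  show (p.map (MvPolynomial.map g)).eval₂ MvPolynomial.constantCoeff (g a) = _
  rw [Polynomial.eval₂_map]
  show _ = g (p.eval₂ MvPolynomial.constantCoeff a)
  rw [Polynomial.hom_eval₂]
  congr 1

theorem coeff_mapPolyA {R R' : Type u} [CommRing R] [CommRing R'] {n : ℕ} (g : R →+* R')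
    (p : PolyA R n) (i : ℕ) (e : Fin n →₀ ℕ) :
    ((mapPolyA n g p).coeff i).coeff e = g ((p.coeff i).coeff e) := by
  simp [mapPolyA, Polynomial.coeff_map, MvPolynomial.coeff_map]

theorem exists_mapPolyA_eq {R R' : Type u} [CommRing R] [CommRing R'] {n : ℕ} (g : R →+* R')
    (p : PolyA R' n) (hp : ∀ i e, (p.coeff i).coeff e ∈ g.range) :
    ∃ q, mapPolyA n g q = p := by
  have : p ∈ Polynomial.lifts (MvPolynomial.map (σ := Fin n) g) := by
    rw [Polynomial.lifts_iff_coeff_lifts]
    intro i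
    choose c hc using fun e => hp i e
    refine ⟨∑ e ∈ (p.coeff i).support, MvPolynomial.monomial e (c e), ?_⟩
    rw [map_sum]
    simp only [MvPolynomial.map_monomial, hc]
    exact (MvPolynomial.as_sum _).symm
  obtain ⟨q, hq⟩ := Polynomial.mem_lifts _ |>.mp this
  exact ⟨q, hq⟩

namespace PtData

variable {R : Type u} [CommRing R] {n : ℕ} (d : PtData R n)

theorem ext' {d₁ d₂ : PtData R n} (h₁ : d₁.f = d₂.f) (h₂ : d₁.a = d₂.a) : d₁ = d₂ := by
  cases d₁; cases d₂; cases h₁; cases h₂; rfl

def map {R' : Type u} [CommRing R'] (g : R →+* R') : PtData R' n where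
  f := mapPolyA n g d.f
  a := g d.a
  monic := d.monic.map _
  sec_f := by rw [secHom_map, d.sec_f, map_zero]
  sec_d := by
    rw [show derivative (mapPolyA n g d.f) = mapPolyA n g (derivative d.f) from
      Polynomial.derivative_map _ _, secHom_map]
    exact d.sec_d.map g

theorem phi_map {R' : Type u} [CommRing R'] (g : R →+* R') (p : PolyA R n) :
    (d.map g).phi (mapPolyA n g p) = MvPowerSeries.map g (d.phi p) := by
  have hcomp : (MvPowerSeries.map g).comp (toPS (R := R) (n := n)) =
      toPS.comp (MvPolynomial.map g) := by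
    refine RingHom.ext fun b => MvPowerSeries.ext fun e => ?_
    simp [toPS, MvPolynomial.coeff_map]
  have hroot : MvPowerSeries.map g d.root = (d.map g).root := by
    apply (d.map g).eq_root
    · show (d.f.map (MvPolynomial.map g)).eval₂ toPS _ = 0
      rw [Polynomial.eval₂_map, ← hcomp, ← Polynomial.hom_eval₂, d.root_spec, map_zero]
    · rw [MvPowerSeries.constantCoeff_map, d.constantCoeff_root]
      rfl
  show (p.map (MvPolynomial.map g)).eval₂ toPS (d.map g).root = _
  rw [Polynomial.eval₂_map, ← hroot, ← hcomp, ← Polynomial.hom_eval₂]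
  rfl

/-- `p ∈ (f) + J` after multiplying by an element invertible at the section. -/
def Rel (J : Ideal R) (p : PolyA R n) : Prop :=
  ∃ s, IsUnit (secHom d.a s) ∧ s * p ∈ Ideal.span {d.f} ⊔ coeffIdeal n J

theorem coeff_mem_of_rel {J : Ideal R} {p : PolyA R n} (h : d.Rel J p) (e : Fin n →₀ ℕ) :
    MvPowerSeries.coeff e (d.phi p) ∈ J := by
  obtain ⟨s, hs, h⟩ := h
  exact d.coeff_phi_mem_of_relation hs h e

theorem krull_aux {P A : Type u} [CommRing P] [CommRing A] [IsNoetherianRing A] (π : P →+* A)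
    (hπ : Function.Surjective π) (𝔮 : Ideal A) [𝔮.IsPrime] (I : Ideal P) (hI : I.map π ≤ 𝔮) (p : P)
    (hp : ∀ j : ℕ, ∃ s, π s ∉ 𝔮 ∧ π (s * p) ∈ (I.map π) ^ j) :
    ∃ s, π s ∉ 𝔮 ∧ π (s * p) = 0 := by
  have hmem : algebraMap A (Localization.AtPrime 𝔮) (π p) ∈
      ⨅ j : ℕ, ((I.map π).map (algebraMap A (Localization.AtPrime 𝔮))) ^ j := by
    rw [Ideal.mem_iInf]
    intro j
    obtain ⟨s, hs, hsp⟩ := hp j
    have h := Ideal.mem_map_of_mem (algebraMap A (Localization.AtPrime 𝔮)) hsp
    rw [Ideal.map_pow, map_mul, map_mul, Ideal.unit_mul_mem_iff_mem _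
      (IsLocalization.map_units (M := 𝔮.primeCompl) _ ⟨π s, hs⟩)] at h
    exact h
  rw [Ideal.iInf_pow_eq_bot_of_isLocalRing _ (ne_top_of_le_ne_top
    (IsLocalRing.maximalIdeal.isMaximal _).ne_top (by
      rw [← Localization.AtPrime.map_eq_maximalIdeal]; exact Ideal.map_mono hI)),
    Ideal.mem_bot] at hmem
  obtain ⟨⟨m, hm⟩, hmp⟩ := (IsLocalization.map_eq_zero_iff 𝔮.primeCompl _ _).mp hmem
  obtain ⟨s, rfl⟩ := hπ m
  exact ⟨s, hm, by rw [map_mul]; exact hmp⟩

theorem exists_mul_mem_span_of_phi_eq_zero [IsNoetherianRing R] [IsLocalRing R] (p : PolyA R n)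
    (hp : d.phi p = 0) : ∃ s, IsUnit (secHom d.a s) ∧ s * p ∈ Ideal.span {d.f} := by
  let ε₀ : PolyA R n →+* IsLocalRing.ResidueField R := (IsLocalRing.residue R).comp (secHom d.a)
  have hlift : Ideal.span {d.f} ≤ RingHom.ker ε₀ := by
    rw [Ideal.span_le]
    rintro _ rfl
    simp [ε₀, d.sec_f]
  let π := Ideal.Quotient.mk (Ideal.span {d.f})
  have hker : RingHom.ker π ≤ RingHom.ker ε₀ := by rw [Ideal.mk_ker]; exact hlift
  have hprime : (RingHom.ker ε₀).IsPrime := RingHom.ker_isPrime ε₀
  have h𝔮 : ((RingHom.ker ε₀).map π).IsPrime :=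
    Ideal.map_isPrime_of_surjective Ideal.Quotient.mk_surjective hker
  have hcomap : ((RingHom.ker ε₀).map π).comap π = RingHom.ker ε₀ :=
    Ideal.comap_map_of_surjective' π Ideal.Quotient.mk_surjective (RingHom.ker ε₀) |>.trans
      (sup_eq_left.mpr hker)
  have hiff : ∀ s, π s ∉ (RingHom.ker ε₀).map π ↔ IsUnit (secHom d.a s) := by
    intro s
    rw [← Ideal.mem_comap, hcomap, RingHom.mem_ker]
    show IsLocalRing.residue R (secHom d.a s) ≠ 0 ↔ _
    exact IsLocalRing.residue_ne_zero_iff_isUnit _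
  obtain ⟨s, hs, hsp⟩ := krull_aux π Ideal.Quotient.mk_surjective ((RingHom.ker ε₀).map π)
    ((MvPolynomial.idealOfVars (Fin n) R).map Polynomial.C) (by
      refine Ideal.map_mono ?_
      rw [MvPolynomial.idealOfVars, Ideal.map_span, Ideal.span_le]
      rintro _ ⟨_, ⟨i, rfl⟩, rfl⟩
      simp [ε₀, secHom]) p (fun j => by
      obtain ⟨s, hs, hsp⟩ := d.exists_mul_mem_pow p j (fun e _ => by rw [hp, map_zero])
      refine ⟨s, (hiff s).mpr hs, ?_⟩
      obtain ⟨x, hx, y, hy, hxy⟩ := Submodule.mem_sup.mp hsp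
      rw [← hxy, map_add, show π x = 0 from Ideal.Quotient.eq_zero_iff_mem.mpr hx, zero_add,
        ← Ideal.map_pow, ← Ideal.map_pow]
      exact Ideal.mem_map_of_mem _ hy)
  exact ⟨s, (hiff s).mp hs, Ideal.Quotient.eq_zero_iff_mem.mp hsp⟩

theorem rel_of_coeff_mem_noetherian [IsNoetherianRing R] [IsLocalRing R] {c : Ideal R} (p : PolyA R n)
    (hp : ∀ e, MvPowerSeries.coeff e (d.phi p) ∈ c) : d.Rel c p := by
  by_cases hc : c = ⊤
  · exact ⟨1, by simp, Ideal.mem_sup_right (mem_coeffIdeal.mpr fun _ _ => hc ▸ Submodule.mem_top)⟩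
  have : Nontrivial (R ⧸ c) := Ideal.Quotient.nontrivial_iff.mpr hc
  have : IsLocalRing (R ⧸ c) := .of_surjective' _ Ideal.Quotient.mk_surjective
  obtain ⟨s', hs', hsp⟩ := (d.map (Ideal.Quotient.mk c)).exists_mul_mem_span_of_phi_eq_zero
    (mapPolyA n (Ideal.Quotient.mk c) p) (by
      rw [phi_map]
      ext e
      rw [MvPowerSeries.coeff_map, map_zero, Ideal.Quotient.eq_zero_iff_mem]
      exact hp e)
  have hsurj : Function.Surjective (mapPolyA n (Ideal.Quotient.mk c)) :=
    Polynomial.map_surjective _ (MvPolynomial.map_surjective _ Ideal.Quotient.mk_surjective)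
  obtain ⟨s, rfl⟩ := hsurj s'
  obtain ⟨r', hr'⟩ := Ideal.mem_span_singleton'.mp hsp
  obtain ⟨r, rfl⟩ := hsurj r'
  refine ⟨s, ?_, ?_⟩
  · rw [show (d.map (Ideal.Quotient.mk c)).a = Ideal.Quotient.mk c d.a from rfl, secHom_map] at hs'
    have : IsLocalHom (Ideal.Quotient.mk c) :=
      IsLocalHom.of_surjective _ Ideal.Quotient.mk_surjective
    exact isUnit_of_map_unit (Ideal.Quotient.mk c) _ hs'
  · have h0 : mapPolyA n (Ideal.Quotient.mk c) (s * p - r * d.f) = 0 := by
      rw [map_sub, map_mul, map_mul]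
      show _ - _ * (d.map (Ideal.Quotient.mk c)).f = 0
      rw [hr', sub_self]
    have h1 : s * p - r * d.f ∈ coeffIdeal n c := by
      rw [mem_coeffIdeal]
      intro i e
      rw [← Ideal.Quotient.eq_zero_iff_mem, ← coeff_mapPolyA, h0]
      simp
    have : s * p = r * d.f + (s * p - r * d.f) := by ring
    rw [this]
    exact Submodule.add_mem_sup (Ideal.mul_mem_left _ _ (Ideal.mem_span_singleton_self _)) h1

end PtData

/-- Over a Noetherian local ring, a power series with a unit coefficient is a nonzerodivisor. -/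
theorem series_eq_zero_of_mul_eq_zero {R : Type u} [CommRing R] [IsNoetherianRing R] [IsLocalRing R]
    {n : ℕ} {τ ν : MvPowerSeries (Fin n) R} (hτ : ∃ e, IsUnit (MvPowerSeries.coeff e τ))
    (h : τ * ν = 0) : ν = 0 := by
  classical
  let Ω := Lex (Fin n → ℕ)
  let lx : (Fin n →₀ ℕ) → Lex (Fin n → ℕ) := fun e => toLex (⇑e)
  have hwf : WellFounded (fun a b : Fin n →₀ ℕ => lx a < lx b) :=
    InvImage.wf lx wellFounded_lt
  set m := IsLocalRing.maximalIdeal R
  have key : ∀ i : ℕ, ∀ e, MvPowerSeries.coeff e ν ∈ m ^ i := by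
    intro i
    induction i with
    | zero => simp
    | succ i ih =>
      by_contra hc
      push Not at hc
      obtain ⟨e, he, hemin⟩ := hwf.has_min {e | MvPowerSeries.coeff e ν ∉ m ^ (i + 1)} hc
      obtain ⟨e', he', he'min⟩ := hwf.has_min {e | IsUnit (MvPowerSeries.coeff e τ)} hτ
      have hsum := congrArg (MvPowerSeries.coeff (e' + e)) h
      rw [MvPowerSeries.coeff_mul, map_zero,
        ← Finset.add_sum_erase _ _ (a := (e', e)) (by simp)] at hsum
      have hrest : ∑ x ∈ (Finset.HasAntidiagonal.antidiagonal (e' + e)).erase (e', e),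
          MvPowerSeries.coeff x.1 τ * MvPowerSeries.coeff x.2 ν ∈ m ^ (i + 1) := by
        refine Ideal.sum_mem _ fun x hx => ?_
        obtain ⟨hne, hx⟩ := Finset.mem_erase.mp hx
        rw [Finset.HasAntidiagonal.mem_antidiagonal] at hx
        have hlex : lx x.1 + lx x.2 = lx e' + lx e := by
          simp only [lx, ← toLex_add, ← Finsupp.coe_add, hx]
        rcases lt_trichotomy (lx x.1) (lx e') with h1 | h1 | h1
        · have : MvPowerSeries.coeff x.1 τ ∈ m :=
            (IsLocalRing.mem_maximalIdeal _).mpr fun hu => he'min x.1 hu h1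
          rw [pow_succ', ]
          exact Ideal.mul_mem_mul this (ih _)
        · refine absurd ?_ hne
          have h2 : x.1 = e' := DFunLike.coe_injective (toLex.injective h1)
          refine Prod.ext h2 ?_
          rw [h2] at hx
          exact add_left_cancel hx
        · have h2 : lx x.2 < lx e := by
            rcases lt_or_ge (lx x.2) (lx e) with h3 | h3
            · exact h3
            · exact absurd hlex (add_lt_add_of_lt_of_le h1 h3).ne'
          exact Ideal.mul_mem_left _ _ (by_contra fun hu => hemin x.2 hu h2)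
      apply he
      have : MvPowerSeries.coeff e' τ * MvPowerSeries.coeff e ν ∈ m ^ (i + 1) := by
        rw [eq_neg_of_add_eq_zero_left hsum]
        exact neg_mem hrest
      exact (Ideal.unit_mul_mem_iff_mem _ he').mp this
  ext e
  have : MvPowerSeries.coeff e ν ∈ ⨅ i : ℕ, m ^ i := Ideal.mem_iInf.mpr fun i => key i e
  rw [Ideal.iInf_pow_eq_bot_of_isLocalRing _ (IsLocalRing.maximalIdeal.isMaximal R).ne_top,
    Ideal.mem_bot] at this
  rw [this, map_zero]

/-- A finite set of elements of a local ring lies in a Noetherian local subring. -/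
theorem exists_noetherian_local_model {R : Type u} [CommRing R] [IsLocalRing R] (T : Finset R) :
    ∃ (R₀ : Type u) (_ : CommRing R₀) (_ : IsNoetherianRing R₀) (_ : IsLocalRing R₀) (g : R₀ →+* R),
      Function.Injective g ∧ IsLocalHom g ∧ ∀ x ∈ T, x ∈ g.range := by
  let S := Algebra.adjoin ℤ (T : Set R)
  have : Algebra.FiniteType ℤ S :=
    (Subalgebra.fg_iff_finiteType _).mp ⟨T, rfl⟩
  have : IsNoetherianRing S := Algebra.FiniteType.isNoetherianRing ℤ S
  let p : Ideal S := (IsLocalRing.maximalIdeal R).comap S.val.toRingHom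
  have hu : ∀ y : p.primeCompl, IsUnit (S.val.toRingHom y) := fun y => by
    by_contra hc
    exact y.2 ((IsLocalRing.mem_maximalIdeal _).mpr hc)
  let g : Localization.AtPrime p →+* R := IsLocalization.lift (S := Localization.AtPrime p) hu
  refine ⟨Localization.AtPrime p, inferInstance, IsLocalization.isNoetherianRing p.primeCompl _
    inferInstance, inferInstance, g, ?_, ?_, ?_⟩
  · rw [injective_iff_map_eq_zero]
    intro x hx
    obtain ⟨a, s, rfl⟩ := IsLocalization.exists_mk'_eq p.primeCompl x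
    rw [IsLocalization.lift_mk'_spec, mul_zero] at hx
    have : a = 0 := Subtype.ext hx
    simp [this]
  · constructor
    intro x hx
    obtain ⟨a, s, rfl⟩ := IsLocalization.exists_mk'_eq p.primeCompl x
    rw [IsLocalization.AtPrime.isUnit_mk'_iff]
    intro ha
    have h1 : S.val.toRingHom a = S.val.toRingHom s * g (IsLocalization.mk' _ a s) :=
      ((IsLocalization.lift_mk'_spec _ _ _ _).mp rfl)
    exact (IsLocalRing.mem_maximalIdeal _).mp ha (h1 ▸ (hu s).mul hx)
  · intro x hx
    refine ⟨algebraMap S _ ⟨x, Algebra.subset_adjoin hx⟩, ?_⟩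
    exact IsLocalization.lift_eq hu _

namespace PtData

variable {R : Type u} [CommRing R] [IsLocalRing R] {n : ℕ} (d : PtData R n)

theorem exists_descend (ps : List (PolyA R n)) :
    ∃ (R₀ : Type u) (_ : CommRing R₀) (_ : IsNoetherianRing R₀) (_ : IsLocalRing R₀) (g : R₀ →+* R)
      (d₀ : PtData R₀ n), Function.Injective g ∧ IsLocalHom g ∧ d₀.map g = d ∧
        ∀ p ∈ ps, ∃ q, mapPolyA n g q = p := by
  classical
  let cs : PolyA R n → Finset R := fun p =>
    p.support.biUnion fun i => (p.coeff i).support.image fun e => (p.coeff i).coeff e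
  obtain ⟨R₀, _, _, _, g, hg, hgl, hT⟩ := exists_noetherian_local_model
    (insert d.a (cs d.f ∪ ps.toFinset.biUnion cs))
  have hmem : ∀ p, cs p ⊆ insert d.a (cs d.f ∪ ps.toFinset.biUnion cs) →
      ∀ i e, (p.coeff i).coeff e ∈ g.range := by
    intro p hp i e
    by_cases he : (p.coeff i).coeff e = 0
    · rw [he]; exact zero_mem _
    refine hT _ (hp (Finset.mem_biUnion.mpr ⟨i, ?_, Finset.mem_image.mpr ⟨e, ?_, rfl⟩⟩))
    · rw [Polynomial.mem_support_iff]
      intro h
      simp [h] at he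
    · exact MvPolynomial.mem_support_iff.mpr he
  obtain ⟨f₀, hf₀⟩ := exists_mapPolyA_eq g d.f (hmem _
    (Finset.subset_union_left.trans (Finset.subset_insert _ _)))
  obtain ⟨a₀, ha₀⟩ := hT d.a (Finset.mem_insert_self _ _)
  refine ⟨R₀, inferInstance, inferInstance, inferInstance, g,
    ⟨f₀, a₀, Polynomial.monic_of_injective (MvPolynomial.map_injective g hg) (by have := d.monic; rw [← hf₀] at this; exact this), ?_, ?_⟩,
    hg, hgl, ?_, ?_⟩
  · apply hg
    rw [← secHom_map, hf₀, ha₀, d.sec_f, map_zero]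
  · apply isUnit_of_map_unit g
    rw [← secHom_map, ha₀,
      show mapPolyA n g (derivative f₀) = derivative (mapPolyA n g f₀) from
        (Polynomial.derivative_map _ _).symm, hf₀]
    exact d.sec_d
  · exact PtData.ext' hf₀ ha₀
  · intro p hp
    exact exists_mapPolyA_eq g p (hmem p ((Finset.subset_biUnion_of_mem cs (List.mem_toFinset.mpr hp)).trans
      (Finset.subset_union_right.trans (Finset.subset_insert _ _))))

/-- The ideal of coefficients of the expansion of `p`. -/
def content (p : PolyA R n) : Ideal R :=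
  Ideal.span (Set.range fun e => MvPowerSeries.coeff e (d.phi p))

theorem content_spec (p : PolyA R n) : (d.content p).FG ∧ d.Rel (d.content p) p := by
  obtain ⟨R₀, _, _, _, g, d₀, hg, hgl, hmap, hps⟩ := d.exists_descend [p]
  obtain ⟨q, hq⟩ := hps p (by simp)
  subst hmap hq
  have hc : (d₀.map g).content (mapPolyA n g q) = (d₀.content q).map g := by
    simp only [content, Ideal.map_span, ← Set.range_comp]
    congr 2
    funext e
    simp [phi_map]
  rw [hc]
  refine ⟨Ideal.FG.map (IsNoetherian.noetherian _) g, ?_⟩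
  obtain ⟨s, hs, hsp⟩ := d₀.rel_of_coeff_mem_noetherian (c := d₀.content q) q
    (fun e => Ideal.subset_span ⟨e, rfl⟩)
  refine ⟨mapPolyA n g s, ?_, ?_⟩
  · show IsUnit (secHom (g d₀.a) _)
    rw [secHom_map]
    exact hs.map g
  · rw [← map_mul]
    have h := Ideal.mem_map_of_mem (mapPolyA n g) hsp
    rw [Ideal.map_sup, Ideal.map_span, Set.image_singleton] at h
    refine SetLike.le_def.mp (sup_le_sup_left ?_ _) h
    rw [Ideal.map_le_iff_le_comap]
    intro y hy
    rw [Ideal.mem_comap, mem_coeffIdeal]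
    intro i e
    rw [coeff_mapPolyA]
    exact Ideal.mem_map_of_mem g (mem_coeffIdeal.mp hy i e)

theorem rel_iff (J : Ideal R) (p : PolyA R n) :
    d.Rel J p ↔ ∀ e, MvPowerSeries.coeff e (d.phi p) ∈ J := by
  refine ⟨fun h e => d.coeff_mem_of_rel h e, fun h => ?_⟩
  obtain ⟨s, hs, hsp⟩ := (d.content_spec p).2
  refine ⟨s, hs, SetLike.le_def.mp (sup_le_sup_left ?_ _) hsp⟩
  refine Ideal.map_mono (Ideal.map_mono (Ideal.span_le.mpr ?_))
  rintro _ ⟨e, rfl⟩
  exact h e

theorem rel_of_mul {J : Ideal R} {t p : PolyA R n}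
    (ht : ∃ e, IsUnit (MvPowerSeries.coeff e (d.phi t))) (h : d.Rel J (t * p)) : d.Rel J p := by
  rw [d.rel_iff] at h ⊢
  obtain ⟨R₀, _, _, _, g, d₀, hg, hgl, hmap, hps⟩ := d.exists_descend [t, p]
  obtain ⟨t₀, ht₀⟩ := hps t (by simp)
  obtain ⟨p₀, hp₀⟩ := hps p (by simp)
  subst hmap ht₀ hp₀
  intro e
  rw [phi_map, MvPowerSeries.coeff_map]
  by_cases hJ : J.comap g = ⊤
  · exact (hJ.symm ▸ Submodule.mem_top : MvPowerSeries.coeff e (d₀.phi p₀) ∈ J.comap g)
  have : Nontrivial (R₀ ⧸ J.comap g) := Ideal.Quotient.nontrivial_iff.mpr hJ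
  have : IsLocalRing (R₀ ⧸ J.comap g) := .of_surjective' _ Ideal.Quotient.mk_surjective
  set π := Ideal.Quotient.mk (J.comap g)
  obtain ⟨e', he'⟩ := ht
  rw [phi_map, MvPowerSeries.coeff_map] at he'
  have hν : MvPowerSeries.map π (d₀.phi p₀) = 0 := by
    refine series_eq_zero_of_mul_eq_zero (τ := MvPowerSeries.map π (d₀.phi t₀)) ⟨e', ?_⟩ ?_
    · rw [MvPowerSeries.coeff_map]
      exact (isUnit_of_map_unit g _ he').map π
    · rw [← map_mul, ← map_mul]
      ext k
      rw [MvPowerSeries.coeff_map, map_zero, Ideal.Quotient.eq_zero_iff_mem, Ideal.mem_comap,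
        ← MvPowerSeries.coeff_map, ← phi_map, map_mul]
      exact h k
  have := congrArg (MvPowerSeries.coeff e) hν
  rwa [MvPowerSeries.coeff_map, map_zero, Ideal.Quotient.eq_zero_iff_mem, Ideal.mem_comap] at this

end PtData

end Groth.Agent.FlatCrit65
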