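import Groth.Agent.FlatCrit65.Point.Free

/-!
# The local ring at a rational point of a standard étale algebra over a polynomial ring
-/

universe u

noncomputable section

namespace Groth.Agent.FlatCrit65

open Polynomial

/-- `π : R[x][y] → D` exhibits `D` as `(R[x][y]/(f))` localised at the section. -/
structure IsPointRing {R : Type u} [CommRing R] {n : ℕ} (d : PtData R n) {D : Type u} [CommRing D]
    [Algebra R D] (π : PolyA R n →ₐ[R] D) : Prop where
  unit : ∀ s, IsUnit (secHom d.a s) → IsUnit (π s)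
  frac : ∀ v : D, ∃ s p, IsUnit (secHom d.a s) ∧ π s * v = π p
  eq_zero : ∀ p, π p = 0 ↔ ∃ s, IsUnit (secHom d.a s) ∧ s * p ∈ Ideal.span {d.f}

namespace IsPointRing

variable {R : Type u} [CommRing R] {n : ℕ} {d : PtData R n} {D : Type u} [CommRing D] [Algebra R D]
  {π : PolyA R n →ₐ[R] D} (h : IsPointRing d π)

include h

theorem map_f : π d.f = 0 :=
  (h.eq_zero _).mpr ⟨1, by simp, by simpa using Ideal.mem_span_singleton_self _⟩

theorem map_coeffIdeal (J : Ideal R) :
    (coeffIdeal n J).map π.toRingHom = J.map (algebraMap R D) := by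
  rw [coeffIdeal, Ideal.map_map, Ideal.map_map]
  congr 1
  exact π.comp_algebraMap

theorem mem_map_iff (J : Ideal R) (p : PolyA R n) :
    π p ∈ J.map (algebraMap R D) ↔ d.Rel J p := by
  constructor
  · intro hp
    rw [← h.map_coeffIdeal] at hp
    have key : ∀ v ∈ (coeffIdeal n J).map π.toRingHom,
        ∃ s y, IsUnit (secHom d.a s) ∧ y ∈ coeffIdeal n J ∧ π s * v = π y := by
      intro v hv
      induction hv using Submodule.span_induction with
      | mem x hx =>
        obtain ⟨y, hy, rfl⟩ := hx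
        exact ⟨1, y, by simp, hy, by simp⟩
      | zero => exact ⟨1, 0, by simp, zero_mem _, by simp⟩
      | add x z _ _ hx hz =>
        obtain ⟨s, y, hs, hy, hsy⟩ := hx
        obtain ⟨s', y', hs', hy', hsy'⟩ := hz
        refine ⟨s * s', s' * y + s * y', by rw [map_mul]; exact hs.mul hs',
          add_mem (Ideal.mul_mem_left _ _ hy) (Ideal.mul_mem_left _ _ hy'), ?_⟩
        rw [map_add, map_mul, map_mul, map_mul, ← hsy, ← hsy']
        ring
      | smul e x _ hx =>
        obtain ⟨s, y, hs, hy, hsy⟩ := hx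
        obtain ⟨s', q, hs', hq⟩ := h.frac e
        refine ⟨s * s', q * y, by rw [map_mul]; exact hs.mul hs', Ideal.mul_mem_left _ _ hy, ?_⟩
        rw [map_mul, map_mul, ← hq, ← hsy, smul_eq_mul]
        ring
    obtain ⟨s, y, hs, hy, hsy⟩ := key _ hp
    obtain ⟨s', hs', hz⟩ := (h.eq_zero (s * p - y)).mp (by rw [map_sub, map_mul, hsy, sub_self])
    refine ⟨s' * s, by rw [map_mul]; exact hs'.mul hs, ?_⟩
    have : s' * s * p = s' * (s * p - y) + s' * y := by ring
    rw [this]
    exact Submodule.add_mem_sup hz (Ideal.mul_mem_left _ _ hy)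
  · rintro ⟨s, hs, hsp⟩
    obtain ⟨x, hx, y, hy, hxy⟩ := Submodule.mem_sup.mp hsp
    obtain ⟨r, rfl⟩ := Ideal.mem_span_singleton'.mp hx
    have h1 : π s * π p ∈ J.map (algebraMap R D) := by
      rw [← map_mul, ← hxy, map_add, map_mul, h.map_f, mul_zero, zero_add, ← h.map_coeffIdeal]
      exact Ideal.mem_map_of_mem _ hy
    exact (Ideal.unit_mul_mem_iff_mem _ (h.unit s hs)).mp h1

theorem contentRing [IsLocalRing R] : ContentRing R D := by
  have hP : ∀ p, π p ∈ (IsLocalRing.maximalIdeal R).map (algebraMap R D) ↔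
      MvPowerSeries.map (IsLocalRing.residue R) (d.phi p) = 0 := by
    intro p
    rw [h.mem_map_iff, d.rel_iff]
    constructor
    · intro hh
      ext e
      rw [MvPowerSeries.coeff_map, map_zero, IsLocalRing.residue_eq_zero_iff]
      exact hh e
    · intro hh e
      rw [← IsLocalRing.residue_eq_zero_iff, ← MvPowerSeries.coeff_map, hh, map_zero]
  have hunitmem : ∀ (J : Ideal R) s v q, IsUnit (secHom d.a s) → π s * v = π q →
      (v ∈ J.map (algebraMap R D) ↔ π q ∈ J.map (algebraMap R D)) := by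
    intro J s v q hs hsv
    rw [← hsv, Ideal.unit_mul_mem_iff_mem _ (h.unit s hs)]
  refine ⟨⟨?_, ?_⟩, ?_, ?_⟩
  · rw [Ideal.ne_top_iff_one]
    intro h1
    have := (hP 1).mp (by rwa [map_one])
    rw [map_one, map_one] at this
    exact one_ne_zero this
  · intro v w hvw
    obtain ⟨s, p, hs, hp⟩ := h.frac v
    obtain ⟨s', q, hs', hq⟩ := h.frac w
    rw [hunitmem _ s v p hs hp, hunitmem _ s' w q hs' hq, hP, hP]
    rw [hunitmem _ (s * s') (v * w) (p * q) (by rw [map_mul]; exact hs.mul hs')
      (by rw [map_mul, map_mul, ← hp, ← hq]; ring), hP, map_mul, map_mul] at hvw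
    exact mul_eq_zero.mp hvw
  · intro v
    obtain ⟨s, p, hs, hp⟩ := h.frac v
    refine ⟨d.content p, (d.content_spec p).1, ?_, fun J hJ => ?_⟩
    · rw [hunitmem _ s v p hs hp, h.mem_map_iff]
      exact (d.content_spec p).2
    · rw [hunitmem _ s v p hs hp, h.mem_map_iff, d.rel_iff] at hJ
      exact Ideal.span_le.mpr (by rintro _ ⟨e, rfl⟩; exact hJ e)
  · intro t ht J v htv
    obtain ⟨s, p, hs, hp⟩ := h.frac v
    obtain ⟨s', q, hs', hq⟩ := h.frac t
    rw [hunitmem _ s v p hs hp, h.mem_map_iff]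
    rw [hunitmem _ (s * s') (t * v) (q * p) (by rw [map_mul]; exact hs.mul hs')
      (by rw [map_mul, map_mul, ← hp, ← hq]; ring), h.mem_map_iff] at htv
    refine d.rel_of_mul ?_ htv
    rw [hunitmem _ s' t q hs' hq, hP] at ht
    by_contra hc
    push Not at hc
    refine ht (MvPowerSeries.ext fun e => ?_)
    rw [MvPowerSeries.coeff_map, map_zero, IsLocalRing.residue_eq_zero_iff]
    exact hc e

theorem maximalIdeal_le [IsLocalRing R] [IsLocalRing D] :
    IsLocalRing.maximalIdeal D ≤ (IsLocalRing.maximalIdeal R).map (algebraMap R D) ⊔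
      Ideal.span (Set.range fun i => π (Polynomial.C (MvPolynomial.X i))) := by
  set K := (IsLocalRing.maximalIdeal R).map (algebraMap R D) ⊔
      Ideal.span (Set.range fun i => π (Polynomial.C (MvPolynomial.X i)))
  intro v hv
  obtain ⟨s, p, hs, hp⟩ := h.frac v
  have hpm : secHom d.a p ∈ IsLocalRing.maximalIdeal R := by
    rw [IsLocalRing.mem_maximalIdeal]
    intro hu
    exact (IsLocalRing.mem_maximalIdeal _).mp hv (isUnit_of_mul_isUnit_right (hp ▸ h.unit p hu))
  let c : PolyA R n := algebraMap R (PolyA R n) (secHom d.a p)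
  have hc : secHom d.a c = secHom d.a p := by
    simp [c, secHom, Polynomial.algebraMap_eq, IsScalarTower.algebraMap_apply R (MvPolynomial (Fin n) R)]
  obtain ⟨s', hs', hsp⟩ := d.exists_mul_mem_pow (p - c) 1 (by
    intro e he
    have : e = 0 := by
      rw [Nat.lt_one_iff, Finsupp.degree_eq_zero_iff] at he
      exact he
    subst this
    rw [MvPowerSeries.coeff_zero_eq_constantCoeff, d.constantCoeff_phi, map_sub, hc, sub_self])
  have hK : π (s' * (p - c)) ∈ K := by
    obtain ⟨x, hx, y, hy, hxy⟩ := Submodule.mem_sup.mp hsp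
    obtain ⟨r, rfl⟩ := Ideal.mem_span_singleton'.mp hx
    rw [← hxy, map_add, map_mul, h.map_f, mul_zero, zero_add]
    refine Ideal.mem_sup_right ?_
    rw [pow_one, MvPolynomial.idealOfVars, Ideal.map_span, ← Set.range_comp] at hy
    have := Ideal.mem_map_of_mem π.toRingHom hy
    rw [Ideal.map_span, ← Set.range_comp] at this
    exact this
  rw [map_mul, Ideal.unit_mul_mem_iff_mem _ (h.unit _ hs'), map_sub] at hK
  have hc' : π c ∈ K := by
    rw [show π c = algebraMap R D (secHom d.a p) from π.commutes _]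
    exact Ideal.mem_sup_left (Ideal.mem_map_of_mem _ hpm)
  have hπp : π p ∈ K := by
    have := K.add_mem hK hc'
    rwa [sub_add_cancel] at this
  rw [← hp] at hπp
  exact (Ideal.unit_mul_mem_iff_mem _ (h.unit _ hs)).mp hπp

end IsPointRing

end Groth.Agent.FlatCrit65
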