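import Mathlib

/-!
# Power series expansion at a rational point of a standard étale algebra over a polynomial ring

`PolyA R n = R[x₁,…,xₙ][y]`, `f` monic in `y` with a simple root `a` over the origin.  The root
`Y ∈ R[[x]]` gives `φ : R[x][y] → R[[x]]`; membership in `(f) + (x)^j` after multiplying by an
element invertible at the section is read off from the coefficients of `φ`.
-/

universe u

noncomputable section

namespace Groth.Agent.FlatCrit65

open Polynomial

abbrev PolyA (R : Type u) [CommRing R] (n : ℕ) : Type u := Polynomial (MvPolynomial (Fin n) R)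

/-- Evaluation at the section `x = 0, y = a`. -/
def secHom {R : Type u} [CommRing R] {n : ℕ} (a : R) : PolyA R n →+* R :=
  Polynomial.eval₂RingHom MvPolynomial.constantCoeff a

structure PtData (R : Type u) [CommRing R] (n : ℕ) where
  f : PolyA R n
  a : R
  monic : f.Monic
  sec_f : secHom a f = 0
  sec_d : IsUnit (secHom a (derivative f))

theorem mem_span_X_of_constantCoeff {R : Type u} [CommRing R] {n : ℕ}
    (F : MvPowerSeries (Fin n) R) (h : MvPowerSeries.constantCoeff F = 0) :
    F ∈ Ideal.span (Set.range (MvPowerSeries.X : Fin n → MvPowerSeries (Fin n) R)) := by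
  classical
  let G : Fin n → MvPowerSeries (Fin n) R := fun i e =>
    if (∀ k < i, e k = 0) then MvPowerSeries.coeff (e + Finsupp.single i 1) F else 0
  have hF : F = ∑ i, MvPowerSeries.monomial (Finsupp.single i 1) 1 * G i := by
    ext e
    rw [map_sum]
    simp only [MvPowerSeries.coeff_monomial_mul, one_mul]
    by_cases he : e = 0
    · subst he
      rw [Finset.sum_eq_zero]
      · rwa [MvPowerSeries.coeff_zero_eq_constantCoeff]
      · intro i _
        rw [if_neg]
        intro hle
        have := hle i
        simp at this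
    · have hne : (Finset.univ.filter fun k => e k ≠ 0).Nonempty := by
        rw [Finset.filter_nonempty_iff]
        by_contra hc
        push Not at hc
        exact he (Finsupp.ext fun k => hc k (Finset.mem_univ _))
      set i₀ := (Finset.univ.filter fun k => e k ≠ 0).min' hne with hi₀
      have hi : e i₀ ≠ 0 := (Finset.mem_filter.mp (Finset.min'_mem _ hne)).2
      have hmin : ∀ k < i₀, e k = 0 := fun k hk => by
        by_contra hc
        exact absurd (Finset.min'_le _ k (Finset.mem_filter.mpr ⟨Finset.mem_univ _, hc⟩)) (not_le.mpr hk)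
      have hle : Finsupp.single i₀ 1 ≤ e := by
        rw [Finsupp.single_le_iff]; omega
      rw [Finset.sum_eq_single i₀]
      · rw [if_pos hle]
        show _ = (if ∀ k < i₀, (e - Finsupp.single i₀ 1 : Fin n →₀ ℕ) k = 0 then
          MvPowerSeries.coeff (e - Finsupp.single i₀ 1 + Finsupp.single i₀ 1) F else 0)
        rw [if_pos, tsub_add_cancel_of_le hle]
        intro k hk
        simp [hmin k hk]
      · intro j _ hj
        by_cases hjle : Finsupp.single j 1 ≤ e
        · rw [if_pos hjle]
          show (if ∀ k < j, (e - Finsupp.single j 1 : Fin n →₀ ℕ) k = 0 then _ else 0) = 0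
          rw [if_neg]
          intro hc
          have hej : e j ≠ 0 := by
            have := hjle j; simp at this; omega
          have hlt : i₀ < j := lt_of_le_of_ne (Finset.min'_le _ j
            (Finset.mem_filter.mpr ⟨Finset.mem_univ _, hej⟩)) (Ne.symm hj)
          have := hc i₀ hlt
          rw [Finsupp.tsub_apply, Finsupp.single_eq_of_ne (ne_of_lt hlt)] at this
          omega
        · rw [if_neg hjle]
      · simp
  rw [hF]
  refine Ideal.sum_mem _ fun i _ => Ideal.mul_mem_right _ _ (Ideal.subset_span ⟨i, ?_⟩)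
  rfl

namespace PtData

variable {R : Type u} [CommRing R] {n : ℕ} (d : PtData R n)

abbrev toPS : MvPolynomial (Fin n) R →+* MvPowerSeries (Fin n) R :=
  MvPolynomial.coeToMvPowerSeries.ringHom

theorem constantCoeff_eval₂ (p : PolyA R n) (Z : MvPowerSeries (Fin n) R) :
    MvPowerSeries.constantCoeff (p.eval₂ toPS Z) = secHom (MvPowerSeries.constantCoeff Z) p := by
  rw [Polynomial.hom_eval₂]
  show _ = p.eval₂ MvPolynomial.constantCoeff _
  congr 1

theorem exists_root : ∃ Y : MvPowerSeries (Fin n) R,
    d.f.eval₂ toPS Y = 0 ∧ MvPowerSeries.constantCoeff Y = d.a := by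
  set I : Ideal (MvPowerSeries (Fin n) R) :=
    Ideal.span (Set.range (MvPowerSeries.X : Fin n → MvPowerSeries (Fin n) R))
  have hI : IsAdicComplete I (MvPowerSeries (Fin n) R) := inferInstance
  have hH : HenselianRing (MvPowerSeries (Fin n) R) I := inferInstance
  obtain ⟨Y, hY, hYa⟩ := hH.is_henselian (d.f.map toPS) (d.monic.map _) (MvPowerSeries.C d.a) (by
    apply mem_span_X_of_constantCoeff
    rw [Polynomial.eval_map, constantCoeff_eval₂, MvPowerSeries.constantCoeff_C, d.sec_f]) (by
    rw [Polynomial.derivative_map]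
    refine IsUnit.map _ ?_
    rw [MvPowerSeries.isUnit_iff_constantCoeff, Polynomial.eval_map, constantCoeff_eval₂,
      MvPowerSeries.constantCoeff_C]
    exact d.sec_d)
  refine ⟨Y, by simpa [Polynomial.IsRoot, Polynomial.eval_map] using hY, ?_⟩
  have h0 : MvPowerSeries.constantCoeff (Y - MvPowerSeries.C d.a) = 0 := by
    have hle : I ≤ RingHom.ker (MvPowerSeries.constantCoeff (σ := Fin n) (R := R)) := by
      refine Ideal.span_le.mpr ?_
      rintro _ ⟨i, rfl⟩
      exact MvPowerSeries.constantCoeff_X i
    exact hle hYa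
  rw [map_sub, MvPowerSeries.constantCoeff_C, sub_eq_zero] at h0
  exact h0

def root : MvPowerSeries (Fin n) R := d.exists_root.choose

theorem root_spec : d.f.eval₂ toPS d.root = 0 := d.exists_root.choose_spec.1

theorem constantCoeff_root : MvPowerSeries.constantCoeff d.root = d.a := d.exists_root.choose_spec.2

theorem eq_root (Z : MvPowerSeries (Fin n) R) (hZ : d.f.eval₂ toPS Z = 0)
    (hZa : MvPowerSeries.constantCoeff Z = d.a) : Z = d.root := by
  obtain ⟨k, hk⟩ := (d.f.map toPS).binomExpansion d.root (Z - d.root)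
  rw [add_sub_cancel, Polynomial.eval_map, Polynomial.eval_map, hZ, d.root_spec,
    Polynomial.derivative_map, Polynomial.eval_map] at hk
  have hu : IsUnit ((derivative d.f).eval₂ toPS d.root + k * (Z - d.root)) := by
    rw [MvPowerSeries.isUnit_iff_constantCoeff, map_add, map_mul, map_sub, constantCoeff_eval₂,
      d.constantCoeff_root, hZa, sub_self, mul_zero, add_zero]
    exact d.sec_d
  have : ((derivative d.f).eval₂ toPS d.root + k * (Z - d.root)) * (Z - d.root) = 0 := by
    rw [add_mul, mul_assoc]
    linear_combination -hk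
  exact sub_eq_zero.mp (hu.mul_right_eq_zero.mp this)

/-- The power series expansion at the section. -/
def phi : PolyA R n →+* MvPowerSeries (Fin n) R := Polynomial.eval₂RingHom toPS d.root

theorem phi_f : d.phi d.f = 0 := d.root_spec

theorem constantCoeff_phi (p : PolyA R n) :
    MvPowerSeries.constantCoeff (d.phi p) = secHom d.a p := by
  show MvPowerSeries.constantCoeff (p.eval₂ toPS d.root) = _
  rw [constantCoeff_eval₂, d.constantCoeff_root]

theorem phi_C (b : MvPolynomial (Fin n) R) : d.phi (Polynomial.C b) = (b : MvPowerSeries (Fin n) R) := by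
  simp [phi, toPS]

end PtData

/-- Coefficientwise extension of an ideal of `R` to `R[x][y]`. -/
def coeffIdeal {R : Type u} [CommRing R] (n : ℕ) (c : Ideal R) : Ideal (PolyA R n) :=
  (c.map (MvPolynomial.C (σ := Fin n))).map Polynomial.C

theorem mem_coeffIdeal {R : Type u} [CommRing R] {n : ℕ} {c : Ideal R} {p : PolyA R n} :
    p ∈ coeffIdeal n c ↔ ∀ i e, (p.coeff i).coeff e ∈ c := by
  simp only [coeffIdeal, Ideal.mem_map_C_iff, MvPolynomial.mem_map_C_iff]

namespace PtData

variable {R : Type u} [CommRing R] {n : ℕ} (d : PtData R n)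

theorem coeff_phi_mem {c : Ideal R} {p : PolyA R n} (hp : p ∈ coeffIdeal n c)
    (e : Fin n →₀ ℕ) : MvPowerSeries.coeff e (d.phi p) ∈ c := by
  have : (MvPowerSeries.map (Ideal.Quotient.mk c)).comp d.phi p = 0 := by
    have hle : coeffIdeal n c ≤ RingHom.ker ((MvPowerSeries.map (Ideal.Quotient.mk c)).comp d.phi) := by
      rw [coeffIdeal, Ideal.map_le_iff_le_comap, Ideal.map_le_iff_le_comap]
      intro r hr
      simp only [Ideal.mem_comap, RingHom.mem_ker, RingHom.comp_apply, phi_C]
      ext e
      classical
      rw [MvPowerSeries.coeff_map, MvPolynomial.coeff_coe, MvPolynomial.coeff_C]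
      split <;> simp [Ideal.Quotient.eq_zero_iff_mem.mpr hr]
    exact hle hp
  have h := congrArg (MvPowerSeries.coeff e) this
  simpa [Ideal.Quotient.eq_zero_iff_mem] using h

theorem coeff_phi_mem_of_relation {c : Ideal R} {s p : PolyA R n} (hs : IsUnit (secHom d.a s))
    (hp : s * p ∈ Ideal.span {d.f} ⊔ coeffIdeal n c) (e : Fin n →₀ ℕ) :
    MvPowerSeries.coeff e (d.phi p) ∈ c := by
  obtain ⟨x, hx, y, hy, hxy⟩ := Submodule.mem_sup.mp hp
  obtain ⟨r, rfl⟩ := Ideal.mem_span_singleton'.mp hx
  have hu : IsUnit (d.phi s) := by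
    rw [MvPowerSeries.isUnit_iff_constantCoeff, constantCoeff_phi]; exact hs
  have h1 : d.phi s * d.phi p = d.phi y := by
    rw [← map_mul, ← hxy, map_add, map_mul, phi_f, mul_zero, zero_add]
  obtain ⟨w, hw⟩ := hu.exists_left_inv
  have h2 : d.phi p = w * d.phi y := by rw [← h1, ← mul_assoc, hw, one_mul]
  classical
  rw [h2, MvPowerSeries.coeff_mul]
  exact Ideal.sum_mem _ fun z _ => c.mul_mem_left _ (d.coeff_phi_mem hy _)

/-- If the expansion of `p` vanishes below degree `j`, then up to an element invertible at the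
section `p` lies in `(f) + (x)^j`. -/
theorem exists_mul_mem_pow (p : PolyA R n) (j : ℕ)
    (hp : ∀ e : Fin n →₀ ℕ, e.degree < j → MvPowerSeries.coeff e (d.phi p) = 0) :
    ∃ s, IsUnit (secHom d.a s) ∧ s * p ∈ Ideal.span {d.f} ⊔
      ((MvPolynomial.idealOfVars (Fin n) R) ^ j).map Polynomial.C := by
  classical
  rcases Nat.eq_zero_or_pos j with rfl | hj
  · refine ⟨1, by simp, Ideal.mem_sup_right ?_⟩
    simp [Ideal.map_top]
  let b : MvPolynomial (Fin n) R := MvPowerSeries.truncTotal j d.root
  have hb0 : MvPolynomial.constantCoeff b = d.a := by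
    show b.coeff 0 = _
    rw [MvPowerSeries.coeff_truncTotal _ (by simpa using hj),
      MvPowerSeries.coeff_zero_eq_constantCoeff]
    exact d.constantCoeff_root
  have hbY : ∀ e : Fin n →₀ ℕ, e.degree < j →
      MvPowerSeries.coeff e ((b : MvPowerSeries (Fin n) R) - d.root) = 0 := by
    intro e he
    rw [map_sub, MvPolynomial.coeff_coe, MvPowerSeries.coeff_truncTotal _ he, sub_self]
  have hlow : ∀ q : PolyA R n, ∀ e : Fin n →₀ ℕ, e.degree < j →
      MvPowerSeries.coeff e (((q.eval b : MvPolynomial (Fin n) R) : MvPowerSeries (Fin n) R) - d.phi q) = 0 := by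
    intro q e he
    have h1 : ((q.eval b : MvPolynomial (Fin n) R) : MvPowerSeries (Fin n) R) =
        (q.map toPS).eval (b : MvPowerSeries (Fin n) R) :=
      (Polynomial.eval_map_apply toPS b).symm
    have h2 : d.phi q = (q.map toPS).eval d.root := (Polynomial.eval_map _ _).symm
    obtain ⟨k, hk⟩ := Polynomial.sub_dvd_eval_sub (b : MvPowerSeries (Fin n) R) d.root (q.map toPS)
    rw [h1, h2, hk, MvPowerSeries.coeff_mul]
    refine Finset.sum_eq_zero fun z hz => ?_
    rw [Finset.HasAntidiagonal.mem_antidiagonal] at hz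
    have hz1 : z.1.degree < j := by
      have : z.1.degree + z.2.degree = e.degree := by rw [← map_add, hz]
      omega
    rw [hbY _ hz1, zero_mul]
  have hfb : d.f.eval b ∈ MvPolynomial.idealOfVars (Fin n) R ^ j := by
    rw [MvPolynomial.mem_pow_idealOfVars_iff']
    intro e he
    have := hlow d.f e he
    rw [d.phi_f, sub_zero, MvPolynomial.coeff_coe] at this
    exact this
  obtain ⟨s, hs⟩ := Polynomial.X_sub_C_dvd_sub_C_eval (a := b) (p := d.f)
  refine ⟨s, ?_, ?_⟩
  · have hd := congrArg (fun q => secHom d.a (derivative q)) hs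
    have hev : secHom d.a (Polynomial.X - Polynomial.C b : PolyA R n) = 0 := by
      simp [secHom, hb0]
    have hder : derivative (Polynomial.X - Polynomial.C b : PolyA R n) = 1 := by simp
    simp only [derivative_sub, derivative_C, sub_zero, derivative_mul, map_add, map_mul,
      derivative_X, one_mul] at hd
    rw [hev, zero_mul, add_zero] at hd
    rw [← hd]
    exact d.sec_d
  · obtain ⟨t, ht⟩ := Polynomial.X_sub_C_dvd_sub_C_eval (a := b) (p := p)
    set K := Ideal.span {d.f} ⊔ ((MvPolynomial.idealOfVars (Fin n) R) ^ j).map Polynomial.C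
    have h1 : (Polynomial.X - Polynomial.C b) * s ∈ K := by
      rw [← hs]
      exact sub_mem (Ideal.mem_sup_left (Ideal.mem_span_singleton_self _))
        (Ideal.mem_sup_right (Ideal.mem_map_of_mem _ hfb))
    have hpb : p.eval b ∈ MvPolynomial.idealOfVars (Fin n) R ^ j := by
      rw [MvPolynomial.mem_pow_idealOfVars_iff']
      intro e he
      have := hlow p e he
      rw [map_sub, hp e he, sub_zero, MvPolynomial.coeff_coe] at this
      exact this
    have h2 : p = Polynomial.C (p.eval b) + (Polynomial.X - Polynomial.C b) * t := by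
      rw [← ht]; ring
    rw [h2, mul_add]
    refine add_mem (K.mul_mem_left _ (Ideal.mem_sup_right (Ideal.mem_map_of_mem _ hpb))) ?_
    have : s * ((Polynomial.X - Polynomial.C b) * t) = t * ((Polynomial.X - Polynomial.C b) * s) := by ring
    rw [this]
    exact K.mul_mem_left _ h1

end PtData

end Groth.Agent.FlatCrit65
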