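import Groth.Agent.FlatCrit65.Point.Tools

/-!
# Reduction to an étale algebra over a polynomial ring
-/

universe u

noncomputable section

open TensorProduct

namespace Groth.Agent.FlatCrit65

variable {R : Type u} [CommRing R] [IsLocalRing R]

theorem isNoetherianRing_closedFibre (S : Type u) [CommRing S] [Algebra R S] [Algebra.EssFiniteType R S] :
    IsNoetherianRing (S ⧸ (IsLocalRing.maximalIdeal R).map (algebraMap R S)) := by
  letI := Ideal.Quotient.field (IsLocalRing.maximalIdeal R)
  exact Algebra.EssFiniteType.isNoetherianRing (R ⧸ IsLocalRing.maximalIdeal R) _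

theorem exists_parameters {S L : Type u} [CommRing S] [Algebra R S] [Algebra.FinitePresentation R S]
    [CommRing L] [IsLocalRing L] [Algebra R L] [Algebra S L] [IsScalarTower R S L] (q : Ideal S) [q.IsPrime]
    [IsLocalization.AtPrime L q] (hm : ∀ c ∈ IsLocalRing.maximalIdeal R, algebraMap R S c ∈ q) (n : ℕ)
    (hdim : ringKrullDim (L ⧸ (IsLocalRing.maximalIdeal R).map (algebraMap R L)) < (n + 1 : ℕ)) :
    ∃ k ≤ n, ∃ t : Fin k → S, (∀ i, t i ∈ q) ∧
      q ∈ ((IsLocalRing.maximalIdeal R).map (algebraMap R S) ⊔ Ideal.span (Set.range t)).minimalPrimes := by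
  have : Algebra.EssFiniteType R L :=
    have := Algebra.EssFiniteType.of_isLocalization (S := L) q.primeCompl
    Algebra.EssFiniteType.comp R S L
  have : IsNoetherianRing (L ⧸ (IsLocalRing.maximalIdeal R).map (algebraMap R L)) :=
    isNoetherianRing_closedFibre L
  set mL := (IsLocalRing.maximalIdeal R).map (algebraMap R L)
  have hmax : ∀ s, s ∈ q → algebraMap S L s ∈ IsLocalRing.maximalIdeal L := fun s hs => by
    rw [IsLocalRing.mem_maximalIdeal, mem_nonunits_iff, IsLocalization.AtPrime.isUnit_to_map_iff L q]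
    exact fun h => h hs
  have hmL : mL ≤ IsLocalRing.maximalIdeal L := by
    rw [Ideal.map_le_iff_le_comap]
    intro c hc
    rw [Ideal.mem_comap, IsScalarTower.algebraMap_apply R S L]
    exact hmax _ (hm c hc)
  have : Nontrivial (L ⧸ mL) := Ideal.Quotient.nontrivial_iff.mpr
    (ne_top_of_le_ne_top (IsLocalRing.maximalIdeal.isMaximal L).ne_top hmL)
  have : IsLocalRing (L ⧸ mL) := .of_surjective' _ Ideal.Quotient.mk_surjective
  obtain ⟨s, hs, hcard⟩ :=
    (IsLocalRing.maximalIdeal (L ⧸ mL)).exists_finset_card_eq_height_of_isNoetherianRing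
  have hk : s.card ≤ n := by
    have h1 := IsLocalRing.maximalIdeal_height_eq_ringKrullDim (R := L ⧸ mL)
    rw [← h1, ← hcard] at hdim
    norm_cast at hdim
    have : s.card < n + 1 := by exact_mod_cast hdim
    omega
  have hlift : ∀ x : (s : Set (L ⧸ mL)), ∃ t : S, t ∈ q ∧
      Ideal.span {Ideal.Quotient.mk mL (algebraMap S L t)} = Ideal.span {(x : L ⧸ mL)} := by
    rintro ⟨x, hx⟩
    obtain ⟨v, rfl⟩ := Ideal.Quotient.mk_surjective x
    obtain ⟨b, ⟨w, hw⟩, rfl⟩ := IsLocalization.exists_mk'_eq q.primeCompl v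
    have hu : IsUnit (Ideal.Quotient.mk mL (algebraMap S L w)) :=
      (IsLocalization.map_units (M := q.primeCompl) L ⟨w, hw⟩).map _
    have hspan : Ideal.span {Ideal.Quotient.mk mL (algebraMap S L b)} =
        Ideal.span {Ideal.Quotient.mk mL (IsLocalization.mk' L b ⟨w, hw⟩)} := by
      rw [← IsLocalization.mk'_spec' L b ⟨w, hw⟩, map_mul, Ideal.span_singleton_mul_left_unit hu]
    refine ⟨b, ?_, hspan⟩
    by_contra hb
    have hxm : Ideal.Quotient.mk mL (IsLocalization.mk' L b ⟨w, hw⟩) ∈ IsLocalRing.maximalIdeal (L ⧸ mL) :=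
      hs.1.2 (Ideal.subset_span hx)
    rw [IsLocalRing.mem_maximalIdeal] at hxm
    exact hxm (((IsLocalization.mk'_eq_mul_mk'_one (M := q.primeCompl) (S := L) b ⟨w, hw⟩).symm ▸
      ((IsLocalization.map_units (M := q.primeCompl) L ⟨b, hb⟩).mul
        (IsUnit.of_mul_eq_one_right _ ((IsLocalization.mk'_spec' L 1 (⟨w, hw⟩ : q.primeCompl)).trans (map_one _))))).map _)
  choose t htq ht using hlift
  let e := s.equivFin.symm
  refine ⟨s.card, hk, fun i => t (e i), fun i => htq _, ⟨⟨inferInstance, ?_⟩, ?_⟩⟩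
  · refine sup_le ?_ (Ideal.span_le.mpr ?_)
    · rw [Ideal.map_le_iff_le_comap]; exact hm
    · rintro _ ⟨i, rfl⟩; exact htq _
  · rintro P ⟨hP, hKP⟩ hPq
    have hd : Disjoint (q.primeCompl : Set S) P := Set.disjoint_left.mpr fun x hx hxP => hx (hPq hxP)
    have hPL : (P.map (algebraMap S L)).IsPrime := IsLocalization.isPrime_of_isPrime_disjoint _ _ _ hP hd
    have hcomap : (P.map (algebraMap S L)).comap (algebraMap S L) = P :=
      IsLocalization.comap_map_of_isPrime_disjoint q.primeCompl L hP hd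
    have hmP : mL ≤ P.map (algebraMap S L) := by
      simp only [mL, IsScalarTower.algebraMap_eq R S L, ← Ideal.map_map]
      exact Ideal.map_mono (le_sup_left.trans hKP)
    have hPb : ((P.map (algebraMap S L)).map (Ideal.Quotient.mk mL)).IsPrime :=
      Ideal.map_isPrime_of_surjective Ideal.Quotient.mk_surjective (by rwa [Ideal.mk_ker])
    have hle : IsLocalRing.maximalIdeal (L ⧸ mL) ≤ (P.map (algebraMap S L)).map (Ideal.Quotient.mk mL) := by
      refine hs.2 ⟨hPb, Ideal.span_le.mpr fun x hx => ?_⟩ (IsLocalRing.le_maximalIdeal_of_isPrime _)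
      rw [SetLike.mem_coe, ← Ideal.span_singleton_le_iff_mem, ← ht ⟨x, hx⟩, Ideal.span_singleton_le_iff_mem]
      refine Ideal.mem_map_of_mem _ (Ideal.mem_map_of_mem _ ?_)
      have := hKP (Ideal.mem_sup_right (Ideal.subset_span ⟨e.symm ⟨x, hx⟩, rfl⟩))
      simp only [Equiv.apply_symm_apply] at this
      exact this
    intro x hx
    rw [← hcomap, Ideal.mem_comap]
    have h1 := hle (show Ideal.Quotient.mk mL (algebraMap S L x) ∈ _ from ?_)
    · rw [← Ideal.mem_comap, Ideal.comap_map_of_surjective _ Ideal.Quotient.mk_surjective,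
        ← RingHom.ker_eq_comap_bot, Ideal.mk_ker, sup_eq_left.mpr hmP] at h1
      exact h1
    · rw [IsLocalRing.mem_maximalIdeal]
      intro hu
      have : IsLocalHom (Ideal.Quotient.mk mL) := IsLocalHom.of_surjective _ Ideal.Quotient.mk_surjective
      exact (IsLocalRing.mem_maximalIdeal _).mp (hmax x hx) (isUnit_of_map_unit _ _ hu)

theorem quasiFiniteAt_of_minimal {k : ℕ} {S : Type u} [CommRing S] [Algebra R S] [Algebra.FinitePresentation R S]
    [Algebra (MvPolynomial (Fin k) R) S] [IsScalarTower R (MvPolynomial (Fin k) R) S] (q : Ideal S) [q.IsPrime]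
    (hrat : ∀ s : S, ∃ c : R, s - algebraMap R S c ∈ q)
    (hx : ∀ i, algebraMap (MvPolynomial (Fin k) R) S (MvPolynomial.X i) ∈ q)
    (hm : ∀ c ∈ IsLocalRing.maximalIdeal R, algebraMap R S c ∈ q)
    (hmin : q ∈ ((IsLocalRing.maximalIdeal R).map (algebraMap R S) ⊔
      Ideal.span (Set.range fun i => algebraMap (MvPolynomial (Fin k) R) S (MvPolynomial.X i))).minimalPrimes) :
    Algebra.QuasiFiniteAt (MvPolynomial (Fin k) R) q := by
  classical
  have : Algebra.FiniteType (MvPolynomial (Fin k) R) S :=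
    Algebra.FiniteType.of_restrictScalars_finiteType R _ _
  set K := (IsLocalRing.maximalIdeal R).map (algebraMap R S) ⊔
      Ideal.span (Set.range fun i => algebraMap (MvPolynomial (Fin k) R) S (MvPolynomial.X i))
  have hqmax : q.IsMaximal := by
    rw [Ideal.isMaximal_iff]
    refine ⟨(Ideal.ne_top_iff_one q).mp Ideal.IsPrime.ne_top', fun I s hqI hsq hsI => ?_⟩
    obtain ⟨c, hc⟩ := hrat s
    have hcu : IsUnit c := by
      by_contra hn
      refine hsq ?_
      have h1 := q.add_mem hc (hm c hn)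
      rwa [sub_add_cancel] at h1
    have h2 : algebraMap R S c ∈ I := by
      have h3 := I.sub_mem hsI (hqI hc)
      rwa [sub_sub_cancel] at h3
    rw [← Ideal.eq_top_iff_one]
    exact Ideal.eq_top_of_isUnit_mem _ h2 (hcu.map _)
  have hfin : K.minimalPrimes.Finite := by
    have hN := isNoetherianRing_closedFibre (R := R) S
    set π := Ideal.Quotient.mk ((IsLocalRing.maximalIdeal R).map (algebraMap R S))
    have h := (Ideal.finite_minimalPrimes_of_isNoetherianRing (R := S ⧸ (IsLocalRing.maximalIdeal R).map (algebraMap R S))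
      (K.map π)).image (Ideal.comap π)
    rw [← Ideal.comap_minimalPrimes_eq_of_surjective Ideal.Quotient.mk_surjective,
      Ideal.comap_map_of_surjective π Ideal.Quotient.mk_surjective, ← RingHom.ker_eq_comap_bot,
      Ideal.mk_ker, sup_eq_left.mpr le_sup_left] at h
    exact h
  have hg : ∀ P ∈ hfin.toFinset.erase q, ∃ g ∈ P, g ∉ q := by
    intro P hP
    obtain ⟨hne, hP⟩ := Finset.mem_erase.mp hP
    have hPK := hfin.mem_toFinset.mp hP
    by_contra hcon
    push Not at hcon
    exact hne (le_antisymm hcon (hmin.2 ⟨hPK.1.1, hPK.1.2⟩ hcon))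
  choose g hgP hgq using hg
  let G : S := ∏ P ∈ (hfin.toFinset.erase q).attach, g P.1 P.2
  have hGq : G ∉ q := fun h => by
    obtain ⟨P, -, hP⟩ := (Ideal.IsPrime.prod_mem_iff (hp := ‹q.IsPrime›)).mp h
    exact hgq _ _ hP
  refine Algebra.QuasiFiniteAt.of_isOpen_singleton_fiber ⟨q, ‹_›⟩ ?_
  refine isOpen_induced_iff.mpr ⟨(PrimeSpectrum.basicOpen G : Set (PrimeSpectrum S)),
    (PrimeSpectrum.basicOpen G).2, ?_⟩
  ext ⟨P, hP⟩
  simp only [Set.mem_preimage, Set.mem_singleton_iff] at hP ⊢
  refine ⟨fun hGP => ?_, fun h => ?_⟩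
  · have hKP : K ≤ P.asIdeal := by
      have hcm : ∀ b, algebraMap (MvPolynomial (Fin k) R) S b ∈ q → algebraMap (MvPolynomial (Fin k) R) S b ∈ P.asIdeal :=
        fun b hb => by
          have := congrArg PrimeSpectrum.asIdeal hP
          exact (SetLike.ext_iff.mp this b).mpr hb
      refine sup_le ?_ (Ideal.span_le.mpr ?_)
      · rw [Ideal.map_le_iff_le_comap]
        intro c hc
        rw [Ideal.mem_comap, IsScalarTower.algebraMap_apply R (MvPolynomial (Fin k) R) S]
        exact hcm _ (by rw [← IsScalarTower.algebraMap_apply]; exact hm c hc)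
      · rintro _ ⟨i, rfl⟩
        exact hcm _ (hx i)
    obtain ⟨Q, hQ, hQP⟩ := Ideal.exists_minimalPrimes_le hKP
    by_cases hQq : Q = q
    · subst hQq
      exact Subtype.ext (PrimeSpectrum.ext (hqmax.eq_of_le P.2.ne_top hQP).symm)
    · exfalso
      apply hGP
      exact hQP (Ideal.prod_mem _ (s := (hfin.toFinset.erase q).attach)
        (i := ⟨Q, Finset.mem_erase.mpr ⟨hQq, hfin.mem_toFinset.mpr hQ⟩⟩)
        (Finset.mem_attach _ _) (hgP _ _))
  · obtain rfl : P = ⟨q, ‹_›⟩ := congrArg Subtype.val h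
    exact hGq

/-- At a rational point, an étale neighbourhood in which the algebra becomes finite, local. -/
theorem exists_finite_split {k : ℕ} {S L : Type u} [CommRing S] [Algebra R S] [Algebra.FinitePresentation R S]
    [Algebra (MvPolynomial (Fin k) R) S] [IsScalarTower R (MvPolynomial (Fin k) R) S]
    [CommRing L] [IsLocalRing L] [Algebra R L] [Algebra S L] [IsScalarTower R S L]
    (q : Ideal S) [q.IsPrime] [IsLocalization.AtPrime L q]
    [Algebra.QuasiFiniteAt (MvPolynomial (Fin k) R) q]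
    (hrat : ∀ s : S, ∃ c : R, s - algebraMap R S c ∈ q)
    (hx : ∀ i, algebraMap (MvPolynomial (Fin k) R) S (MvPolynomial.X i) ∈ q)
    (hm : ∀ c ∈ IsLocalRing.maximalIdeal R, algebraMap R S c ∈ q) :
    ∃ (B' : Type u) (_ : CommRing B') (_ : Algebra (MvPolynomial (Fin k) R) B') (_ : Algebra R B')
      (_ : IsScalarTower R (MvPolynomial (Fin k) R) B') (_ : Algebra.Etale (MvPolynomial (Fin k) R) B')
      (r' : Ideal B') (_ : r'.IsPrime),
      (∀ i, algebraMap (MvPolynomial (Fin k) R) B' (MvPolynomial.X i) ∈ r') ∧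
      (∀ c ∈ IsLocalRing.maximalIdeal R, algebraMap R B' c ∈ r') ∧
      (∀ b : B', ∃ c : R, b - algebraMap R B' c ∈ r') ∧
      ∃ (L' : Type u) (_ : CommRing L') (_ : Algebra (Localization.AtPrime r') L') (_ : Algebra L L')
        (_ : Algebra R L') (_ : IsScalarTower R (Localization.AtPrime r') L') (_ : IsScalarTower R L L'),
        Module.Finite (Localization.AtPrime r') L' ∧ Module.Flat L L' ∧ Module.FaithfullyFlat L L' := by
  have : Algebra.FiniteType (MvPolynomial (Fin k) R) S :=
    Algebra.FiniteType.of_restrictScalars_finiteType R _ _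
  obtain ⟨B', _, _, _, P, _, _, e, he, Q, _, _, hQq, heQ, hres, hfin, huniq⟩ :=
    Algebra.exists_etale_isIdempotentElem_forall_liesOver_eq (q.under (MvPolynomial (Fin k) R)) q
  letI : Algebra R B' := ((algebraMap (MvPolynomial (Fin k) R) B').comp (algebraMap R _)).toAlgebra
  have : IsScalarTower R (MvPolynomial (Fin k) R) B' := IsScalarTower.of_algebraMap_eq fun _ => rfl
  set r := q.under (MvPolynomial (Fin k) R) with hr
  have hXr : ∀ i, (MvPolynomial.X i : MvPolynomial (Fin k) R) ∈ r := hx
  have hCr : ∀ c ∈ IsLocalRing.maximalIdeal R, algebraMap R (MvPolynomial (Fin k) R) c ∈ r := fun c hc => by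
    show algebraMap (MvPolynomial (Fin k) R) S _ ∈ q
    rw [← IsScalarTower.algebraMap_apply]; exact hm c hc
  have hrR : ∀ b : MvPolynomial (Fin k) R, ∃ c : R, b - algebraMap R _ c ∈ r := by
    intro b
    refine ⟨MvPolynomial.constantCoeff b, ?_⟩
    induction b using MvPolynomial.induction_on with
    | C a => simp [← MvPolynomial.algebraMap_eq]
    | add p q hp hq =>
      rw [map_add, map_add, add_sub_add_comm]
      exact add_mem hp hq
    | mul_X p i hp => simpa using r.mul_mem_left p (hXr i)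
  have hrmax : r.IsMaximal := by
    rw [Ideal.isMaximal_iff]
    refine ⟨(Ideal.ne_top_iff_one r).mp Ideal.IsPrime.ne_top', fun I b hrI hbr hbI => ?_⟩
    obtain ⟨c, hc⟩ := hrR b
    have hcu : IsUnit c := by
      by_contra hn
      refine hbr ?_
      have h1 := r.add_mem hc (hCr c hn)
      rwa [sub_add_cancel] at h1
    have h2 : algebraMap R _ c ∈ I := by
      have h3 := I.sub_mem hbI (hrI hc)
      rwa [sub_sub_cancel] at h3
    rw [← Ideal.eq_top_iff_one]
    exact Ideal.eq_top_of_isUnit_mem _ h2 (hcu.map _)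
  have hover : ∀ b : MvPolynomial (Fin k) R, b ∈ r → algebraMap _ B' b ∈ P := fun b hb => by
    rw [P.over_def r] at hb; exact hb
  refine ⟨B', inferInstance, inferInstance, inferInstance, inferInstance, ‹_›, P, ‹_›,
    fun i => hover _ (hXr i), fun c hc => hover _ (hCr c hc), fun b => ?_, ?_⟩
  · obtain ⟨z, hz⟩ := hres.2 (algebraMap B' P.ResidueField b)
    obtain ⟨z, rfl⟩ := Ideal.algebraMap_residueField_surjective r z
    obtain ⟨c, hc⟩ := hrR z
    refine ⟨c, ?_⟩
    have h1 : b - algebraMap _ B' z ∈ P := by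
      rw [← Ideal.algebraMap_residueField_eq_zero, map_sub, sub_eq_zero, ← hz]
      exact (AlgHom.commutes _ z).trans
        (IsScalarTower.algebraMap_apply (MvPolynomial (Fin k) R) B' P.ResidueField z)
    have h2 := P.add_mem h1 (hover _ hc)
    rw [map_sub, sub_add_sub_cancel] at h2
    exact h2
  let T := B' ⊗[MvPolynomial (Fin k) R] S
  let L' := Localization.AtPrime Q
  let D₀ := Localization.AtPrime P
  letI : Algebra D₀ L' := Localization.AtPrime.algebraOfLiesOver P Q
  letI : Algebra S T := Algebra.TensorProduct.rightAlgebra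
  have hflatT : Module.Flat S T := Module.Flat.isBaseChange (MvPolynomial (Fin k) R) S B' T
    (Algebra.IsPushout.out (R := MvPolynomial (Fin k) R) (S := S) (R' := B') (S' := T))
  have hflatL' : Module.Flat S L' := Module.Flat.trans S T L'
  have hunits : ∀ s : q.primeCompl, IsUnit ((algebraMap T L').comp (algebraMap S T) s) := fun s =>
    IsLocalization.map_units (M := Q.primeCompl) L'
      (⟨algebraMap S T s, fun h => s.2 (hQq ▸ (h : _ ∈ Q))⟩ : Q.primeCompl)
  letI : Algebra L L' := (IsLocalization.lift (S := L) hunits).toAlgebra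
  have : IsScalarTower S L L' := IsScalarTower.of_algebraMap_eq fun s =>
    (IsScalarTower.algebraMap_apply S T L' s).trans (IsLocalization.lift_eq (S := L) hunits s).symm
  have hflat : Module.Flat L L' := (Module.flat_iff_of_isLocalization L q.primeCompl L').mpr hflatL'
  have hRT : ∀ c : R, algebraMap S T (algebraMap R S c) = algebraMap B' T (algebraMap R B' c) := fun c => by
    show (1 : B') ⊗ₜ[MvPolynomial (Fin k) R] algebraMap R S c =
      algebraMap (MvPolynomial (Fin k) R) B' (algebraMap R _ c) ⊗ₜ[MvPolynomial (Fin k) R] (1 : S)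
    rw [IsScalarTower.algebraMap_apply R (MvPolynomial (Fin k) R) S, Algebra.algebraMap_eq_smul_one (A := S),
      Algebra.algebraMap_eq_smul_one (A := B'), TensorProduct.tmul_smul, TensorProduct.smul_tmul']
  have : IsScalarTower R B' L' := IsScalarTower.of_algebraMap_eq fun c => by
    rw [IsScalarTower.algebraMap_apply R T L', IsScalarTower.algebraMap_apply B' T L']
    congr 1
  have : IsScalarTower R D₀ L' := IsScalarTower.of_algebraMap_eq fun c => by
    rw [IsScalarTower.algebraMap_apply R B' D₀, ← IsScalarTower.algebraMap_apply B' D₀ L',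
      ← IsScalarTower.algebraMap_apply]
  have : IsScalarTower R L L' := IsScalarTower.of_algebraMap_eq fun c => by
    rw [IsScalarTower.algebraMap_apply R S L, ← IsScalarTower.algebraMap_apply S L L',
      IsScalarTower.algebraMap_apply S T L', hRT, ← IsScalarTower.algebraMap_apply B' T L',
      ← IsScalarTower.algebraMap_apply]
  have hloc : IsLocalHom (algebraMap L L') := ⟨fun v hv => by
    obtain ⟨b, ⟨s, hs⟩, rfl⟩ := IsLocalization.exists_mk'_eq q.primeCompl v
    by_contra hn
    have hb : b ∈ q := by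
      by_contra hb
      exact hn ((IsLocalization.AtPrime.isUnit_mk'_iff L q b ⟨s, hs⟩).mpr hb)
    have h1 : IsUnit (algebraMap L L' (algebraMap S L b)) := by
      rw [← IsLocalization.mk'_spec L b (⟨s, hs⟩ : q.primeCompl), map_mul]
      exact hv.mul ((IsLocalization.map_units (M := q.primeCompl) L ⟨s, hs⟩).map _)
    rw [← IsScalarTower.algebraMap_apply, IsScalarTower.algebraMap_apply S T L',
      IsLocalization.AtPrime.isUnit_to_map_iff L' Q] at h1
    exact h1 (hQq.symm ▸ hb : b ∈ Q.comap (algebraMap S T))⟩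
  refine ⟨L', inferInstance, inferInstance, inferInstance, inferInstance, inferInstance, inferInstance,
    ?_, hflat, Module.FaithfullyFlat.of_flat_of_isLocalHom⟩
  -- finiteness: `L'` is a quotient of `D₀ ⊗ T_e`
  let Te := Localization.Away e
  let ρ : Te →ₐ[B'] L' := IsLocalization.Away.liftAlgHom e (f := IsScalarTower.toAlgHom B' T L')
    (IsLocalization.map_units (M := Q.primeCompl) L' ⟨e, heQ⟩)
  let φ : D₀ ⊗[B'] Te →ₐ[D₀] L' :=
    Algebra.TensorProduct.lift (Algebra.ofId D₀ L') ρ fun _ _ => .all _ _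
  suffices Function.Surjective φ from Module.Finite.of_surjective φ.toLinearMap this
  intro v
  obtain ⟨b, ⟨s, hs⟩, rfl⟩ := IsLocalization.exists_mk'_eq Q.primeCompl v
  have hρ : ∀ x : T, ρ (algebraMap T Te x) = algebraMap T L' x := fun x =>
    IsLocalization.Away.lift_eq e (IsLocalization.map_units (M := Q.primeCompl) L' ⟨e, heQ⟩) x
  have hφ : ∀ x : T, φ (1 ⊗ₜ algebraMap T Te x) = algebraMap T L' x := fun x => by
    rw [Algebra.TensorProduct.lift_tmul, map_one, one_mul, hρ]
  have hu : IsUnit ((1 : D₀) ⊗ₜ[B'] algebraMap T Te s) := by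
    by_contra hn
    obtain ⟨M, hM, hsM⟩ := exists_max_ideal_of_mem_nonunits hn
    have : Algebra.IsIntegral D₀ (D₀ ⊗[B'] Te) := Algebra.IsIntegral.of_finite _ _
    have hMD : (M.comap (algebraMap D₀ (D₀ ⊗[B'] Te))).IsMaximal :=
      Ideal.isMaximal_comap_of_isIntegral_of_isMaximal M
    let ι : Te →+* D₀ ⊗[B'] Te := Algebra.TensorProduct.includeRight.toRingHom
    have hover' : ((M.comap ι).comap (algebraMap T Te)).LiesOver P := by
      constructor
      show P = _
      have hb : ∀ b, b ∈ P ↔ algebraMap B' D₀ b ∈ M.comap (algebraMap D₀ (D₀ ⊗[B'] Te)) := fun b => by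
        rw [IsLocalRing.eq_maximalIdeal hMD, IsLocalRing.mem_maximalIdeal, mem_nonunits_iff,
          IsLocalization.AtPrime.isUnit_to_map_iff D₀ P, Ideal.mem_primeCompl_iff, not_not]
      ext b
      rw [hb b]
      show (algebraMap B' D₀ b) ⊗ₜ[B'] (1 : Te) ∈ M ↔ (1 : D₀) ⊗ₜ[B'] algebraMap T Te (algebraMap B' T b) ∈ M
      rw [← IsScalarTower.algebraMap_apply B' T Te, Algebra.algebraMap_eq_smul_one,
        Algebra.algebraMap_eq_smul_one, TensorProduct.smul_tmul]
    have heM : e ∉ (M.comap ι).comap (algebraMap T Te) :=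
      fun h => Ideal.IsPrime.ne_top' (I := M.comap ι)
        (Ideal.eq_top_of_isUnit_mem _ h (IsLocalization.Away.algebraMap_isUnit e))
    have hQ' := huniq _ inferInstance hover' heM
    exact hs (hQ' ▸ (hsM : s ∈ (M.comap ι).comap (algebraMap T Te)))
  obtain ⟨w, hw⟩ := hu.exists_left_inv
  refine ⟨w * (1 ⊗ₜ algebraMap T Te b), ?_⟩
  have hw' : φ w * algebraMap T L' s = 1 := by rw [← hφ, ← map_mul, hw, map_one]
  rw [map_mul, hφ]
  refine ((IsLocalization.map_units (M := Q.primeCompl) L' ⟨s, hs⟩).mul_left_cancel ?_)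
  rw [IsLocalization.mk'_spec', ← mul_assoc, mul_comm _ (φ w), hw', one_mul]

end Groth.Agent.FlatCrit65
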